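/-
Groups whose Sylow 2-subgroups meet cyclically (owner: helper31).

* `unique_sylow`: a non-cyclic 2-subgroup lies in one Sylow 2-subgroup.
* `meet_subgroup`: the condition passes to subgroups.
* `no_commuting`: two non-solvable subgroups cannot centralise each other.
* `exists_simple_normal`: with trivial solvable radical a non-solvable group has a simple normal subgroup
  with trivial centraliser.
-/
import Cfsg.Agent.Lib.CyclicMeet.Setup
import Cfsg.Agent.Lib.QuatMeet.Basic

set_option autoImplicit false
set_option linter.style.haveILetI false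

namespace Cfsg.Agent.MeetReduce

open Subgroup CyclicMeet
open scoped Pointwise commutatorElement

universe u

variable {G : Type u} [Group G] [Finite G]

/-- A non-cyclic 2-subgroup lies in one Sylow 2-subgroup. -/
theorem unique_sylow (hC : MeetCyclic G) {P : Subgroup G} (hP : ¬ IsCyclic P) {S T : Sylow 2 G}
    (hS : P ≤ (S : Subgroup G)) (hT : P ≤ (T : Subgroup G)) : S = T := by
  by_contra hne
  haveI := hC S T hne
  exact hP (isCyclic_of_injective (inclusion (le_inf hS hT)) (inclusion_injective _))

/-- The condition passes to subgroups. -/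
theorem meet_subgroup (hC : MeetCyclic G) (H : Subgroup G) : MeetCyclic H := by
  intro A B hne
  obtain ⟨S, hS⟩ := (A.isPGroup'.map H.subtype).exists_le_sylow
  obtain ⟨T, hT⟩ := (B.isPGroup'.map H.subtype).exists_le_sylow
  have hST : S ≠ T := by
    rintro rfl
    refine hne (Sylow.ext ?_)
    have hp : IsPGroup 2 ↥((S : Subgroup G).subgroupOf H) := S.isPGroup'.comap_subtype
    have hA : (A : Subgroup H) ≤ (S : Subgroup G).subgroupOf H := fun x hx => hS ⟨x, hx, rfl⟩
    have hB : (B : Subgroup H) ≤ (S : Subgroup G).subgroupOf H := fun x hx => hT ⟨x, hx, rfl⟩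
    exact (A.3 hp hA).symm.trans (B.3 hp hB)
  haveI := hC S T hST
  let f : ↥((A : Subgroup H) ⊓ (B : Subgroup H)) →* ↥((S : Subgroup G) ⊓ (T : Subgroup G)) :=
    (H.subtype.comp ((A : Subgroup H) ⊓ (B : Subgroup H)).subtype).codRestrict _ fun x =>
      ⟨hS ⟨_, x.2.1, rfl⟩, hT ⟨_, x.2.2, rfl⟩⟩
  exact isCyclic_of_injective f fun x y h => Subtype.ext (Subtype.ext
    (congrArg (fun z : ↥((S : Subgroup G) ⊓ (T : Subgroup G)) => (z : G)) h))

/-- A non-solvable group has non-cyclic Sylow 2-subgroups. -/
theorem not_isCyclic_sylow (hns : ¬ Group.IsSolvable G) (S : Sylow 2 G) :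
    ¬ IsCyclic (S : Subgroup G) := fun hcyc => by
  apply hns
  obtain ⟨N, hn, hc⟩ := (S0071.result S).2 fun Q hQS g hg hco => by
    haveI : IsCyclic Q := isCyclic_of_injective (inclusion hQS) (inclusion_injective hQS)
    exact Transfer.centralizes_of_isPGroup_mulAut
      (Transfer.isPGroup_mulAut_of_isCyclic (S.isPGroup'.to_le hQS)) hg hco
  exact QuatMeet.isSolvable_of_complement S hn hc

/-- Two non-solvable subgroups do not centralise each other. -/
theorem no_commuting (hC : MeetCyclic G) {H K : Subgroup G}
    (hHK : ∀ h ∈ H, ∀ k ∈ K, h * k = k * h) (hH : ¬ Group.IsSolvable H) (hK : ¬ Group.IsSolvable K) :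
    False := by
  obtain ⟨P₀⟩ : Nonempty (Sylow 2 H) := inferInstance
  obtain ⟨A₀⟩ : Nonempty (Sylow 2 K) := inferInstance
  obtain ⟨B₀, hB₀⟩ := exists_two_sylow hK A₀
  set P := (P₀ : Subgroup H).map H.subtype with hP
  have hPc : ¬ IsCyclic P := fun h => not_isCyclic_sylow hH P₀ (by
    haveI := h
    exact isCyclic_of_injective
      ((P₀ : Subgroup H).equivMapOfInjective _ H.subtype_injective).toMonoidHom (MulEquiv.injective _))
  have key : ∀ A : Sylow 2 K, ∃ S : Sylow 2 G,
      P ≤ (S : Subgroup G) ∧ (A : Subgroup K).map K.subtype ≤ (S : Subgroup G) := by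
    intro A
    have hp : IsPGroup 2 ↥(P ⊔ (A : Subgroup K).map K.subtype) := by
      refine (P₀.isPGroup'.map _).to_sup_of_normal_left' (A.isPGroup'.map _) fun a ha => ?_
      obtain ⟨k, -, rfl⟩ := ha
      refine centralizer_le_normalizer (P : Set G) fun p hp => ?_
      obtain ⟨h, -, rfl⟩ := hp
      exact hHK _ h.2 _ k.2
    obtain ⟨S, hS⟩ := hp.exists_le_sylow
    exact ⟨S, le_sup_left.trans hS, le_sup_right.trans hS⟩
  obtain ⟨S, hPS, hAS⟩ := key A₀
  obtain ⟨T, hPT, hBT⟩ := key B₀
  obtain rfl := unique_sylow hC hPc hPS hPT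
  refine hB₀ (Sylow.ext ?_)
  have hp : IsPGroup 2 ↥((S : Subgroup G).subgroupOf K) := S.isPGroup'.comap_subtype
  exact (B₀.3 hp fun x hx => hBT ⟨x, hx, rfl⟩).symm.trans (A₀.3 hp fun x hx => hAS ⟨x, hx, rfl⟩)

omit [Finite G] in
theorem normal_map_conj {L : Subgroup G} [L.Normal] {M : Subgroup L} (hM : M.Normal) (g : G) :
    (M.map (MulAut.conjNormal g : MulAut L).toMonoidHom).Normal :=
  hM.map _ (MulAut.conjNormal g : MulAut L).surjective

/-- A simple normal subgroup with trivial centraliser. -/
theorem exists_simple_normal (hC : MeetCyclic G) (hns : ¬ Group.IsSolvable G)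
    (hR : ∀ N : Subgroup G, N.Normal → Group.IsSolvable N → N = ⊥) :
    ∃ L : Subgroup G, L.Normal ∧ IsSimpleGroup L ∧ ¬ IsMulCommutative L ∧
      centralizer (L : Set G) = ⊥ := by
  classical
  have htop : (⊤ : Subgroup G) ≠ ⊥ := fun h => by
    haveI : Subsingleton G := Subgroup.subsingleton_iff.1 (subsingleton_of_bot_eq_top h.symm)
    exact hns inferInstance
  obtain ⟨L, -, ⟨hLn, hL1⟩, hmin⟩ := exists_minimal_le_of_wellFoundedLT
    (fun M : Subgroup G => M.Normal ∧ M ≠ ⊥) ⊤ ⟨inferInstance, htop⟩
  haveI := hLn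
  have hmin' : ∀ M : Subgroup G, M.Normal → M ≠ ⊥ → M ≤ L → M = L := fun M hM hM1 hML =>
    le_antisymm hML (hmin ⟨hM, hM1⟩ hML)
  have hLns : ¬ Group.IsSolvable L := fun h => hL1 (hR L hLn h)
  have hLab : ¬ IsMulCommutative L := fun h => hLns (Group.isSolvable_of_comm fun a b => h.is_comm.comm a b)
  haveI : Nontrivial L := (nontrivial_iff_ne_bot L).2 hL1
  have hsimple : IsSimpleGroup L := by
    constructor
    intro M₀ hM₀
    by_cases hM₀1 : M₀ = ⊥
    · exact Or.inl hM₀1
    right
    obtain ⟨M, hMle, ⟨hMn, hM1⟩, hMmin⟩ :=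
      exists_minimal_le_of_wellFoundedLT (fun M : Subgroup L => M.Normal ∧ M ≠ ⊥) M₀ ⟨hM₀, hM₀1⟩
    refine top_le_iff.1 (le_trans ?_ hMle)
    let c : G → Subgroup L := fun g => M.map (MulAut.conjNormal g : MulAut L).toMonoidHom
    have hmem : ∀ g : G, ∀ m ∈ M, (MulAut.conjNormal g : MulAut L) m ∈ c g := fun g m hm => ⟨m, hm, rfl⟩
    have hc1 : c 1 = M := by
      show M.map _ = M
      rw [map_one]
      exact M.map_id
    -- the join of the conjugates is everything
    have hjoin : (⨆ g, c g) = ⊤ := by
      have hn : ((⨆ g, c g).map L.subtype).Normal := ⟨fun x hx g => by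
        obtain ⟨y, hy, rfl⟩ := hx
        refine ⟨(MulAut.conjNormal g : MulAut L) y, ?_, rfl⟩
        have h1 : (⨆ h, c h).map (MulAut.conjNormal g : MulAut L).toMonoidHom ≤ ⨆ h, c h := by
          rw [Subgroup.map_iSup]
          refine iSup_le fun h => le_trans (le_of_eq ?_) (le_iSup c (g * h))
          show (M.map _).map _ = M.map _
          rw [Subgroup.map_map, map_mul (MulAut.conjNormal (H := L))]
          rfl
        exact h1 ⟨y, hy, rfl⟩⟩
      have hle : M ≤ ⨆ g, c g := le_trans hc1.ge (le_iSup c 1)
      have h1 := hmin' _ hn (fun h => hM1 (le_bot_iff.1 (hle.trans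
        (by rw [Subgroup.map_eq_bot_iff, ker_subtype, le_bot_iff] at h; exact h.le))))
        (map_subtype_le _)
      exact map_injective L.subtype_injective
        (h1.trans (by rw [← MonoidHom.range_eq_map, range_subtype]))
    by_cases hall : ∀ g : G, c g = M
    · rw [← hjoin]
      exact iSup_le fun g => (hall g).le
    exfalso
    push Not at hall
    obtain ⟨g, hg⟩ := hall
    have hcn : ∀ h, (c h).Normal := fun h => normal_map_conj hMn h
    have hdis : ∀ h h', c h ≠ c h' → ∀ x ∈ c h, ∀ y ∈ c h', x * y = y * x := by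
      intro h h' hne x hx y hy
      haveI := hcn h
      haveI := hcn h'
      have hminc : ∀ h : G, ∀ D : Subgroup L, D.Normal → D ≠ ⊥ → D ≤ c h → D = c h := by
        intro h D hD hD1 hDle
        let e : MulAut L := MulAut.conjNormal h
        have h2 : D.map e.symm.toMonoidHom ≤ M := by
          refine (Subgroup.map_mono hDle).trans (le_of_eq ?_)
          show (M.map e.toMonoidHom).map e.symm.toMonoidHom = M
          rw [Subgroup.map_map]
          convert M.map_id
          ext z
          simp
        have h3 := hMmin ⟨hD.map _ e.symm.surjective, fun hb => hD1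
          ((Subgroup.map_eq_bot_iff_of_injective _ e.symm.injective).1 hb)⟩ h2
        refine le_antisymm hDle ?_
        rintro _ ⟨m, hm, rfl⟩
        obtain ⟨d, hd, rfl⟩ := h3 hm
        show e (e.symm d) ∈ D
        rwa [e.apply_symm_apply]
      have hbot : c h ⊓ c h' = ⊥ := by
        by_contra hb
        exact hne ((hminc h _ inferInstance hb inf_le_left).symm.trans
          (hminc h' _ inferInstance hb inf_le_right))
      exact (commute_of_normal_of_disjoint _ _ inferInstance inferInstance (disjoint_iff.2 hbot) x y hx hy).eq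
    have hMns : ¬ Group.IsSolvable M := by
      intro hMs
      -- a solvable minimal normal subgroup is abelian, so L is
      haveI := hMs
      haveI : Nontrivial M := (nontrivial_iff_ne_bot M).2 hM1
      have hMab : ∀ x ∈ M, ∀ y ∈ M, x * y = y * x := by
        haveI := hMn
        have hlt := Group.IsSolvable.commutator_lt_top_of_nontrivial M
        have hD : (⁅M, M⁆ : Subgroup L) = ⊥ := by
          by_contra hb
          have hle : ⁅M, M⁆ ≤ M := Subgroup.commutator_le_self M
          have h1 : M ≤ ⁅M, M⁆ := hMmin ⟨inferInstance, hb⟩ hle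
          apply hlt.ne
          refine map_injective M.subtype_injective ?_
          rw [_root_.commutator_def, map_commutator, ← MonoidHom.range_eq_map, range_subtype]
          exact le_antisymm hle h1
        intro x hx y hy
        have h1 := commutator_mem_commutator hx hy
        rw [hD, mem_bot] at h1
        exact commutatorElement_eq_one_iff_mul_comm.1 h1
      apply hLab
      have hgen : ∀ h h', ∀ x ∈ c h, ∀ y ∈ c h', x * y = y * x := by
        intro h h' x hx y hy
        by_cases hne : c h = c h'
        · rw [← hne] at hy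
          obtain ⟨a, ha, rfl⟩ := hx
          obtain ⟨b, hb, rfl⟩ := hy
          rw [← map_mul, ← map_mul, hMab a ha b hb]
        · exact hdis h h' hne x hx y hy
      have hcomm : ∀ h, c h ≤ centralizer ((⊤ : Subgroup L) : Set L) := by
        intro h x hx
        rw [← hjoin]
        intro y hy
        refine Subgroup.iSup_induction c (C := fun y => y * x = x * y) hy
          (fun k y hy => (hgen h k x hx y hy).symm) (by rw [one_mul, mul_one])
          (fun y z hy hz => by rw [mul_assoc, hz, ← mul_assoc, hy, mul_assoc])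
      refine ⟨⟨fun x y => ?_⟩⟩
      have hy : y ∈ (⨆ h, c h) := hjoin ▸ mem_top y
      exact (iSup_le hcomm) hy x (mem_top x)
    have hcomm : ∀ x ∈ M.map L.subtype, ∀ y ∈ (c g).map L.subtype, x * y = y * x := by
      rintro _ ⟨x, hx, rfl⟩ _ ⟨y, hy, rfl⟩
      have h1 : c 1 = M := hc1
      have := hdis 1 g (by rw [h1]; exact fun e => hg e.symm) x (h1.symm ▸ hx) y hy
      rw [← map_mul, ← map_mul, this]
    refine no_commuting hC hcomm (fun h => hMns ?_) (fun h => hMns ?_)
    · exact Group.isSolvable_of_isSolvable_injective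
        (f := ((M.equivMapOfInjective _ L.subtype_injective)).toMonoidHom) (MulEquiv.injective _)
    · exact Group.isSolvable_of_isSolvable_injective
        (f := (((MulAut.conjNormal g : MulAut L).subgroupMap M).trans
          ((c g).equivMapOfInjective _ L.subtype_injective)).toMonoidHom) (MulEquiv.injective _)
  refine ⟨L, hLn, hsimple, hLab, ?_⟩
  by_contra hne
  exact no_commuting hC (H := L) (K := centralizer (L : Set G)) (fun l hl c hc => hc l hl) hLns
    fun h => hne (hR _ inferInstance h)

end Cfsg.Agent.MeetReduce
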