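import Cfsg.Agent.Lib.MeetReduce.JankoRigid
import Cfsg.Agent.Lib.CentralMeet.Main

/-!
# S3308 from the three involution theorem (owner: helper31; simple groups by helper56's `CentralMeet`)

* `simpleClass`, `radical_section` : the simple groups, and every group
-/

set_option autoImplicit false
set_option linter.style.haveILetI false

namespace Cfsg.Agent.MeetReduce

open Subgroup CyclicMeet

universe u

/-- The simple groups with cyclic Sylow 2-intersections. -/
theorem simpleClass (hTI : Goldschmidt.ThreeInv.ThreeInvTarget.{u}) : SimpleClass.{u} := by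
  intro L _ _ hs hab hC
  haveI := hs
  have hlist : InList L := CentralMeet.of_threeInv hTI hab
    (rankOneMeet_of_meetCyclic hC)
  refine ⟨hlist, ?_⟩
  by_cases hJ : Cfsg.IsJ1 L
  · exact coreRigid_of_card hab hC hJ.2
  · exact coreRigid_of_four hab hlist hJ

/-- The structure over the solvable radical. -/
theorem radical_section (hTI : Goldschmidt.ThreeInv.ThreeInvTarget.{u}) {G : Type u} [Group G] [Finite G]
    (hns : ¬ Group.IsSolvable G) (hC : MeetCyclic G) (R : Subgroup G) [R.Normal]
    (hR : Group.IsSolvable ↥R)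
    (hRmax : ∀ N : Subgroup G, N.Normal → Group.IsSolvable ↥N → N ≤ R) :
    ∃ (G₁ : Subgroup G) (_ : G₁.Normal) (_ : (R.subgroupOf G₁).Normal), Odd G₁.index ∧ R ≤ G₁ ∧
      IsSimpleGroup (↥G₁ ⧸ R.subgroupOf G₁) ∧ ¬ IsMulCommutative (↥G₁ ⧸ R.subgroupOf G₁) ∧
      InList (↥G₁ ⧸ R.subgroupOf G₁) :=
  exists_odd_index hns hC R hR hRmax fun L _ _ _ hs hab hCL => simpleClass hTI L hs hab hCL

end Cfsg.Agent.MeetReduce
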