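import Cfsg.Agent.Lib.MeetReduce.Main
import Cfsg.Agent.Lib.CentralMeet.Basic

/-!
# A simple group of order 175560 with cyclic Sylow 2-intersections is rigid (owner: helper31)

* `rankOneMeet_of_meetCyclic` : the hypothesis of S3185 holds
* `coreRigid_of_card` : elementary Sylow 2-subgroups of order eight and one class of involutions
-/

set_option autoImplicit false
set_option linter.unusedSectionVars false
set_option linter.style.haveILetI false

namespace Cfsg.Agent.MeetReduce

open Subgroup CyclicMeet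
open Cfsg.Agent.CentralMeet (RankOneMeet omega)

universe u

variable {G : Type u} [Group G] [Finite G]

theorem rankOneMeet_of_meetCyclic (hC : MeetCyclic G) : RankOneMeet G := by
  intro S T hST _ A _ hexp
  classical
  haveI := hC S T hST
  haveI : IsCyclic A := inferInstance
  letI : Fintype A := Fintype.ofFinite A
  have h := IsCyclic.card_pow_eq_one_le (α := A) (by norm_num : 0 < 2)
  have hp : ∀ a : A, a ^ 2 = 1 := fun a => Subtype.ext (hexp a.1 a.2)
  rw [Finset.filter_true_of_mem (fun a _ => hp a), Finset.card_univ] at h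
  rw [Nat.card_eq_fintype_card]
  simpa using h

theorem commute_of_mem_omega {S : Subgroup G} {c : G} (h : c ∈ omega S) : ∀ a ∈ S, Commute a c :=
  (CentralMeet.mem_omega_iff.1 h).2.2

/-- The Sylow 2-subgroups of a simple group of order 175560 are elementary. -/
theorem elementary_of_card [IsSimpleGroup G] (hG : ¬ IsMulCommutative G) (hR : RankOneMeet G)
    (hcard : Nat.card G = 175560) : ∀ S : Sylow 2 G, ∀ x ∈ S, x * x = 1 := by
  classical
  haveI : Fact (Nat.Prime 2) := ⟨Nat.prime_two⟩
  have hS8 : ∀ S : Sylow 2 G, Nat.card (S : Subgroup G) = 8 := fun S => by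
    have := S.card_eq_multiplicity
    rw [hcard] at this
    rw [this]
    have h1 : (175560 : ℕ).factorization 2 = 3 := by
      have hle : 3 ≤ (175560 : ℕ).factorization 2 :=
        (Nat.prime_two.pow_dvd_iff_le_factorization (by norm_num)).1 (by norm_num)
      have hlt : ¬ 4 ≤ (175560 : ℕ).factorization 2 := fun h =>
        absurd ((Nat.prime_two.pow_dvd_iff_le_factorization (by norm_num)).2 h) (by norm_num)
      omega
    rw [h1]
    norm_num
  -- elementary abelian
  intro S x hx
  have h4 := CentralMeet.omega_four_le hR hG S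
  have hcomm : ∀ a ∈ S, ∀ b ∈ S, a * b = b * a := by
    -- a central subgroup of index at most two
    intro a ha b hb
    by_cases hmem : b ∈ omega (S : Subgroup G)
    · exact ((commute_of_mem_omega hmem) a ha).eq
    by_cases hmem' : a ∈ omega (S : Subgroup G)
    · exact ((commute_of_mem_omega hmem') b hb).eq.symm
    have hidx : (omega (S : Subgroup G)).relIndex (S : Subgroup G) ≤ 2 := by
      have h := (omega (S : Subgroup G)).relIndex_mul_index (K := (⊤ : Subgroup G))
      have hmul : Nat.card (omega (S : Subgroup G)) * (omega (S : Subgroup G)).relIndex (S : Subgroup G) =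
          Nat.card (S : Subgroup G) := by
        rw [← Nat.card_congr (subgroupOfEquivOfLe (CentralMeet.omega_le (S : Subgroup G))).toEquiv]
        exact card_mul_index _
      rw [hS8 S] at hmul
      by_contra hlt
      push Not at hlt
      nlinarith
    have hab : a⁻¹ * b ∈ omega (S : Subgroup G) := by
      have hle := hidx
      set W := (omega (S : Subgroup G)).subgroupOf (S : Subgroup G) with hW
      have hW2 : W.index ≤ 2 := hle
      have hW0 : W.index ≠ 0 := index_ne_zero_of_finite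
      rcases Nat.lt_or_ge W.index 2 with h1 | h1
      · have : W = ⊤ := index_eq_one.1 (by omega)
        exact absurd (mem_subgroupOf.1 (this ▸ mem_top (⟨b, hb⟩ : (S : Subgroup G)) :
          (⟨b, hb⟩ : (S : Subgroup G)) ∈ W)) hmem
      · have h2 : W.index = 2 := by omega
        have h3 : (⟨a, ha⟩ : (S : Subgroup G))⁻¹ * ⟨b, hb⟩ ∈ W :=
          (mul_mem_iff_of_index_two h2).2 (by
            simp only [inv_mem_iff, hW, mem_subgroupOf]
            exact iff_of_false hmem' hmem)
        exact mem_subgroupOf.1 h3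
    have h1 := ((commute_of_mem_omega hab) a ha).eq
    rw [mul_inv_cancel_left] at h1
    rw [mul_assoc] at h1
    calc a * b = a * (a * (a⁻¹ * b)) := by group
      _ = a * ((a⁻¹ * b) * a) := by rw [← (commute_of_mem_omega hab a ha).eq]
      _ = b * a := by group
  -- the squares have at most two elements, and `N(S)` moves every involution
  by_contra hxx
  have hxS : x * x ∈ S := mul_mem hx hx
  have hx4 : x * x * (x * x) = 1 := by
    have hd := orderOf_dvd_natCard (⟨x, hx⟩ : (S : Subgroup G))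
    rw [hS8 S, Subgroup.orderOf_mk] at hd
    have h8 : orderOf x ∣ 2 ^ 3 := hd
    obtain ⟨i, hi, hi'⟩ := (Nat.dvd_prime_pow Nat.prime_two).1 h8
    interval_cases i
    · have hx1 : x = 1 := orderOf_eq_one_iff.1 (by simpa using hi')
      exact absurd (by rw [hx1, mul_one]) hxx
    · exact absurd (by rw [← pow_two, ← pow_one (2 : ℕ), ← hi', pow_orderOf_eq_one]) hxx
    · calc x * x * (x * x) = x ^ (2 ^ 2) := by simp [pow_succ, mul_assoc]
        _ = 1 := by rw [← hi', pow_orderOf_eq_one]
    · exfalso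
      -- a cyclic Sylow subgroup
      have hcyc : IsCyclic (S : Subgroup G) := isCyclic_of_orderOf_eq_card ⟨x, hx⟩
        (by rw [Subgroup.orderOf_mk, hi', hS8 S]; norm_num)
      refine not_isCyclic_sylow (fun hs => hG ⟨⟨IsSimpleGroup.comm_iff_isSolvable.2 hs⟩⟩) S hcyc
  have ht : x * x ∈ omega (S : Subgroup G) :=
    CentralMeet.mem_omega_iff.2 ⟨hxS, hx4, fun s hs => hcomm s hs _ hxS⟩
  obtain ⟨n, hn, hne⟩ := CentralMeet.exists_moved hR hG ht hxx
  -- the conjugate is again a square, so equal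
  set y := n * x * n⁻¹ with hy
  have hyS : y ∈ S := (mem_normalizer_iff.1 hn x).1 hx
  have hyy : y * y = n * (x * x) * n⁻¹ := by rw [hy]; group
  refine hne (hyy ▸ ?_)
  -- squares: the map is a homomorphism with kernel of order at least four
  haveI : IsMulCommutative (S : Subgroup G) := ⟨⟨fun a b => Subtype.ext (hcomm a a.2 b b.2)⟩⟩
  let sq : (S : Subgroup G) →* (S : Subgroup G) :=
    MonoidHom.mk' (fun a => a * a) fun a b => by
      rw [mul_assoc a b, ← mul_assoc b a, IsMulCommutative.is_comm.comm b a]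
      group
  have hker : (omega (S : Subgroup G)).subgroupOf (S : Subgroup G) ≤ sq.ker := fun a ha =>
    Subtype.ext (CentralMeet.mem_omega_iff.1 (mem_subgroupOf.1 ha)).2.1
  have hrange : Nat.card sq.range ≤ 2 := by
    have h1 := Subgroup.card_mul_index sq.ker
    rw [index_ker, hS8 S] at h1
    have h2 : 4 ≤ Nat.card sq.ker :=
      le_trans (h4.trans (le_of_eq (Nat.card_congr
        (subgroupOfEquivOfLe (CentralMeet.omega_le (S : Subgroup G))).toEquiv).symm))
        (Nat.le_of_dvd Nat.card_pos (card_dvd_of_le hker))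
    nlinarith
  letI : Fintype sq.range := Fintype.ofFinite _
  rw [Nat.card_eq_fintype_card] at hrange
  by_contra hne'
  have h3 : ({1, ⟨sq ⟨x, hx⟩, ⟨_, rfl⟩⟩, ⟨sq ⟨y, hyS⟩, ⟨_, rfl⟩⟩} : Finset sq.range).card ≤ 2 :=
    (Finset.card_le_univ _).trans hrange
  rw [Finset.card_insert_of_notMem (by
      simp only [Finset.mem_insert, Finset.mem_singleton, not_or]
      refine ⟨fun e => hxx (congrArg (fun a : sq.range => ((a : (S : Subgroup G)) : G)) e).symm,
        fun e => hxx ?_⟩
      have e' : (1 : G) = y * y := congrArg (fun a : sq.range => ((a : (S : Subgroup G)) : G)) e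
      rw [hyy] at e'
      exact conj_eq_one_iff.1 e'.symm),
    Finset.card_pair (fun e => hne' (congrArg (fun a : sq.range => ((a : (S : Subgroup G)) : G)) e).symm)] at h3
  omega

/-- The Sylow 2-subgroups and the involutions of a simple group of order 175560. -/
theorem coreRigid_of_rankOne [IsSimpleGroup G] (hG : ¬ IsMulCommutative G) (hR : RankOneMeet G)
    (hcard : Nat.card G = 175560) : CoreRigid G := by
  classical
  haveI : Fact (Nat.Prime 2) := ⟨Nat.prime_two⟩
  have hS8 : ∀ S : Sylow 2 G, Nat.card (S : Subgroup G) = 8 := fun S => by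
    have := S.card_eq_multiplicity
    rw [hcard] at this
    rw [this]
    have h1 : (175560 : ℕ).factorization 2 = 3 := by
      have hle : 3 ≤ (175560 : ℕ).factorization 2 :=
        (Nat.prime_two.pow_dvd_iff_le_factorization (by norm_num)).1 (by norm_num)
      have hlt : ¬ 4 ≤ (175560 : ℕ).factorization 2 := fun h =>
        absurd ((Nat.prime_two.pow_dvd_iff_le_factorization (by norm_num)).2 h) (by norm_num)
      omega
    rw [h1]
    norm_num
  -- elementary abelian
  have helem := elementary_of_card hG hR hcard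
  have hnc : ∀ T : Sylow 2 G, ¬ IsCyclic (T : Subgroup G) := not_isCyclic_sylow fun hs =>
    hG ⟨⟨IsSimpleGroup.comm_iff_isSolvable.2 hs⟩⟩
  refine CoreRigid.of_elementary helem hnc ?_
  -- one class
  obtain ⟨S⟩ : Nonempty (Sylow 2 G) := inferInstance
  have hab : ∀ a ∈ S, ∀ b ∈ S, a * b = b * a := fun a ha b hb => by
    have hinv : ∀ c ∈ S, c⁻¹ = c := fun c hc => inv_eq_of_mul_eq_one_right (helem S c hc)
    rw [← hinv _ (mul_mem ha hb), mul_inv_rev, hinv a ha, hinv b hb]
  set N := normalizer ((S : Subgroup G) : Set G) with hN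
  have horb : ∀ t ∈ S, t ≠ 1 → Odd (Nat.card {y : G // ∃ n ∈ N, n * t * n⁻¹ = y}) ∧
      1 < Nat.card {y : G // ∃ n ∈ N, n * t * n⁻¹ = y} := by
    intro t ht ht1
    set K := (centralizer ({t} : Set G)).subgroupOf N with hK
    have e : Nat.card (↥N ⧸ K) = Nat.card {y : G // ∃ n ∈ N, n * t * n⁻¹ = y} := by
      refine Nat.card_congr (Equiv.ofBijective
        (fun q : ↥N ⧸ K => Quotient.liftOn' q
          (fun n => (⟨(n : G) * t * (n : G)⁻¹, n, n.2, rfl⟩ : {y : G // ∃ n ∈ N, n * t * n⁻¹ = y}))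
          fun a b hab => Subtype.ext ?_) ⟨?_, ?_⟩)
      · have h1 : (a : G)⁻¹ * b * t = t * ((a : G)⁻¹ * b) :=
          mem_centralizer_singleton_iff.1 (mem_subgroupOf.1 (QuotientGroup.leftRel_apply.1 hab))
        calc (a : G) * t * (a : G)⁻¹ = a * (t * ((a : G)⁻¹ * b)) * (b : G)⁻¹ := by group
          _ = (b : G) * t * (b : G)⁻¹ := by rw [← h1]; group
      · intro p q hpq
        induction p using Quotient.inductionOn' with | _ a => ?_
        induction q using Quotient.inductionOn' with | _ b => ?_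
        have h1 : (a : G) * t * (a : G)⁻¹ = (b : G) * t * (b : G)⁻¹ := congrArg Subtype.val hpq
        refine Quotient.sound' (QuotientGroup.leftRel_apply.2 (mem_subgroupOf.2
          (mem_centralizer_singleton_iff.2 ?_)))
        show (a : G)⁻¹ * b * t = t * ((a : G)⁻¹ * b)
        calc (a : G)⁻¹ * b * t = (a : G)⁻¹ * ((b : G) * t * (b : G)⁻¹) * b := by group
          _ = t * ((a : G)⁻¹ * b) := by rw [← h1]; group
      · rintro ⟨y, n, hn, rfl⟩
        exact ⟨QuotientGroup.mk ⟨n, hn⟩, rfl⟩
    rw [← e, ← Subgroup.index_eq_card]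
    have hSK : (S : Subgroup G).subgroupOf N ≤ K := fun a ha =>
      mem_subgroupOf.2 (mem_centralizer_singleton_iff.2 (hab _ (mem_subgroupOf.1 ha) t ht))
    have hdvd : K.index ∣ ((S : Subgroup G).subgroupOf N).index := index_dvd_of_le hSK
    have hodd : Odd ((S : Subgroup G).subgroupOf N).index := Nat.not_even_iff_odd.1 fun h =>
      S.not_dvd_index ((even_iff_two_dvd.1 h).trans (relIndex_dvd_index_of_le le_normalizer))
    refine ⟨hodd.of_dvd_nat hdvd, ?_⟩
    have hne : K.index ≠ 1 := fun h => by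
      rw [index_eq_one] at h
      obtain ⟨n, hn, hmove⟩ := CentralMeet.exists_moved hR hG
        (CentralMeet.mem_omega_iff.2 ⟨ht, helem S t ht, fun s hs => hab s hs t ht⟩) ht1
      refine hmove ?_
      have h1 := mem_centralizer_singleton_iff.1 (mem_subgroupOf.1 (h ▸ mem_top (⟨n, hn⟩ : N) :
        (⟨n, hn⟩ : N) ∈ K))
      rw [h1, mul_inv_cancel_right]
    have := index_ne_zero_of_finite (H := K)
    omega
  have key : ∀ t ∈ S, t ≠ 1 → ∀ y ∈ S, y ≠ 1 → ∃ n ∈ N, n * t * n⁻¹ = y := by
    intro t ht ht1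
    by_contra hy
    push Not at hy
    obtain ⟨y, hyS, hy1, hy⟩ := hy
    -- a third orbit
    letI : Fintype (S : Subgroup G) := Fintype.ofFinite _
    have hconjS : ∀ n ∈ N, ∀ a ∈ S, n * a * n⁻¹ ∈ S := fun n hn a ha => (mem_normalizer_iff.1 hn a).1 ha
    let O : G → Finset (S : Subgroup G) := fun a => Finset.univ.filter fun b => ∃ n ∈ N, n * a * n⁻¹ = (b : G)
    have hOcard : ∀ a ∈ S, (O a).card = Nat.card {z : G // ∃ n ∈ N, n * a * n⁻¹ = z} := fun a ha => by
      rw [← Nat.card_eq_finsetCard]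
      exact Nat.card_congr
        { toFun := fun b => ⟨((b : (S : Subgroup G)) : G), (Finset.mem_filter.1 b.2).2⟩
          invFun := fun z => ⟨⟨z.1, by obtain ⟨n, hn, e⟩ := z.2; exact e ▸ hconjS n hn a ha⟩,
            Finset.mem_filter.2 ⟨Finset.mem_univ _, z.2⟩⟩
          left_inv := fun b => rfl
          right_inv := fun z => rfl }
    have hOne : ∀ a ∈ S, a ≠ 1 → (1 : (S : Subgroup G)) ∉ O a := fun a _ ha1 h => by
      obtain ⟨n, -, e⟩ := (Finset.mem_filter.1 h).2
      exact ha1 (conj_eq_one_iff.1 e)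
    have hsymm : ∀ a b : G, (∃ n ∈ N, n * a * n⁻¹ = b) → ∀ c : G, (∃ n ∈ N, n * b * n⁻¹ = c) →
        ∃ n ∈ N, n * a * n⁻¹ = c := by
      rintro a b ⟨n, hn, rfl⟩ c ⟨m, hm, rfl⟩
      exact ⟨m * n, mul_mem hm hn, by group⟩
    have hback : ∀ a b : G, (∃ n ∈ N, n * a * n⁻¹ = b) → ∃ n ∈ N, n * b * n⁻¹ = a := by
      rintro a b ⟨n, hn, rfl⟩
      exact ⟨n⁻¹, inv_mem hn, by group⟩
    have hdisj : ∀ a b : G, (¬ ∃ n ∈ N, n * a * n⁻¹ = b) → Disjoint (O a) (O b) := fun a b h => by
      rw [Finset.disjoint_left]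
      intro c hca hcb
      exact h (hsymm a c (Finset.mem_filter.1 hca).2 b (hback b c (Finset.mem_filter.1 hcb).2))
    have hnot : ¬ ∃ n ∈ N, n * t * n⁻¹ = y := fun ⟨n, hn, e⟩ => hy n hn e
    obtain ⟨hto, ht2⟩ := horb t ht ht1
    obtain ⟨hyo, hy2⟩ := horb y hyS hy1
    rw [← hOcard t ht] at hto ht2
    rw [← hOcard y hyS] at hyo hy2
    have h7 : ((Finset.univ : Finset (S : Subgroup G)).erase 1).card = 7 := by
      rw [Finset.card_erase_of_mem (Finset.mem_univ _), Finset.card_univ, ← Nat.card_eq_fintype_card, hS8]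
    have hsub : O t ∪ O y ⊆ (Finset.univ : Finset (S : Subgroup G)).erase 1 := by
      intro c hc
      refine Finset.mem_erase.2 ⟨fun e => ?_, Finset.mem_univ _⟩
      rcases Finset.mem_union.1 hc with h | h
      · exact hOne t ht ht1 (e ▸ h)
      · exact hOne y hyS hy1 (e ▸ h)
    by_cases hall : O t ∪ O y = (Finset.univ : Finset (S : Subgroup G)).erase 1
    · have h := congrArg Finset.card hall
      rw [Finset.card_union_of_disjoint (hdisj t y hnot), h7] at h
      obtain ⟨i, hi⟩ := hto; obtain ⟨j, hj⟩ := hyo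
      omega
    obtain ⟨z, hz, hz'⟩ := Finset.exists_of_ssubset (lt_of_le_of_ne hsub hall)
    have hz1 : (z : G) ≠ 1 := fun e => (Finset.mem_erase.1 hz).1 (Subtype.ext e)
    obtain ⟨hzo, hz2⟩ := horb z z.2 hz1
    rw [← hOcard (z : G) z.2] at hzo hz2
    have hd1 : Disjoint (O t ∪ O y) (O z) := Finset.disjoint_union_left.2
      ⟨hdisj t z fun h => hz' (Finset.mem_union_left _ (Finset.mem_filter.2 ⟨Finset.mem_univ _, h⟩)),
       hdisj y z fun h => hz' (Finset.mem_union_right _ (Finset.mem_filter.2 ⟨Finset.mem_univ _, h⟩))⟩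
    have hle : (O t ∪ O y ∪ O z).card ≤ 7 := h7 ▸ Finset.card_le_card (Finset.union_subset hsub fun c hc =>
      Finset.mem_erase.2 ⟨fun e => hOne z z.2 hz1 (e ▸ hc), Finset.mem_univ _⟩)
    rw [Finset.card_union_of_disjoint hd1, Finset.card_union_of_disjoint (hdisj t y hnot)] at hle
    obtain ⟨i, hi⟩ := hto; obtain ⟨j, hj⟩ := hyo; obtain ⟨k, hk⟩ := hzo
    omega
  intro a b ha hb
  -- move both into `S`
  have hmove : ∀ c : G, orderOf c = 2 → ∃ g : G, g * c * g⁻¹ ∈ S := by
    intro c hc
    obtain ⟨T, hT⟩ := (IsPGroup.of_card (n := 1) (p := 2) (G := zpowers c)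
      (by rw [Nat.card_zpowers, hc, pow_one])).exists_le_sylow
    obtain ⟨g, hg⟩ := MulAction.exists_smul_eq G T S
    refine ⟨g, ?_⟩
    rw [← hg, ← MulAut.conj_apply, ← MulAut.smul_def]
    exact smul_mem_pointwise_smul _ _ _ (hT (mem_zpowers c))
  obtain ⟨g, hg⟩ := hmove a ha
  obtain ⟨g', hg'⟩ := hmove b hb
  have hne : ∀ c k : G, orderOf c = 2 → k * c * k⁻¹ ≠ 1 := fun c k hc h => by
    rw [conj_eq_one_iff.1 h, orderOf_one] at hc; omega
  obtain ⟨n, -, hn⟩ := key _ hg (hne a g ha) _ hg' (hne b g' hb)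
  refine isConj_iff.2 ⟨g'⁻¹ * n * g, ?_⟩
  calc g'⁻¹ * n * g * a * (g'⁻¹ * n * g)⁻¹ = g'⁻¹ * (n * (g * a * g⁻¹) * n⁻¹) * g' := by group
    _ = b := by rw [hn]; group

theorem coreRigid_of_card [IsSimpleGroup G] (hG : ¬ IsMulCommutative G) (hC : MeetCyclic G)
    (hcard : Nat.card G = 175560) : CoreRigid G :=
  coreRigid_of_rankOne hG (rankOneMeet_of_meetCyclic hC) hcard

end Cfsg.Agent.MeetReduce
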