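import Cfsg.Agent.Lib.MeetReduce.Rigid
import Cfsg.Agent.S3305
import Cfsg.Prelude.Def_Sporadic

/-!
# Nonsolvable groups with cyclic Sylow 2-intersections (owner: helper31)

* `InList L` : the five families
* `SimpleClass` : a simple group with cyclic Sylow 2-intersections is in the list and is `CoreRigid`
* `InList.congr`, `exists_odd_index` : the theorem for every group from `SimpleClass`
-/

set_option autoImplicit false
set_option linter.unusedSectionVars false
set_option linter.style.haveILetI false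

namespace Cfsg.Agent.MeetReduce

open Subgroup CyclicMeet

universe u v

/-- The five families. -/
def InList (L : Type u) [Group L] : Prop :=
  (∃ (n : ℕ) (F : Type) (_ : Field F) (_ : Fintype F), 2 ≤ n ∧ Fintype.card F = 2 ^ n ∧
      Nonempty (L ≃* Matrix.ProjectiveSpecialLinearGroup (Fin 2) F)) ∨
  (∃ (m : ℕ) (F : Type) (_ : Field F) (_ : Fintype F), 1 ≤ m ∧ Fintype.card F = 2 ^ (2 * m + 1) ∧
      Nonempty (L ≃* ↥(Cfsg.Lie.Sz F (2 ^ (m + 1))))) ∨
  (∃ (n : ℕ) (F : Type) (_ : Field F) (_ : Fintype F), 2 ≤ n ∧ Fintype.card F = 4 ^ n ∧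
      Nonempty (L ≃* Cfsg.PSU 3 F (2 ^ n))) ∨
  (∃ (F : Type) (_ : Field F) (_ : Fintype F), (Fintype.card F % 8 = 3 ∨ Fintype.card F % 8 = 5) ∧
      5 < Fintype.card F ∧ Nonempty (L ≃* Matrix.ProjectiveSpecialLinearGroup (Fin 2) F)) ∨
  Cfsg.IsJ1 L

theorem InList.congr {L : Type u} [Group L] {M : Type v} [Group M] (h : InList L) (e : M ≃* L) :
    InList M := by
  rcases h with ⟨n, F, i1, i2, h1, h2, ⟨f⟩⟩ | ⟨n, F, i1, i2, h1, h2, ⟨f⟩⟩ | ⟨n, F, i1, i2, h1, h2, ⟨f⟩⟩ |
    ⟨F, i1, i2, h1, h2, ⟨f⟩⟩ | h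
  · exact Or.inl ⟨n, F, i1, i2, h1, h2, ⟨e.trans f⟩⟩
  · exact Or.inr (Or.inl ⟨n, F, i1, i2, h1, h2, ⟨e.trans f⟩⟩)
  · exact Or.inr (Or.inr (Or.inl ⟨n, F, i1, i2, h1, h2, ⟨e.trans f⟩⟩))
  · exact Or.inr (Or.inr (Or.inr (Or.inl ⟨F, i1, i2, h1, h2, ⟨e.trans f⟩⟩)))
  · haveI := h.1
    haveI : Nontrivial M := e.toEquiv.nontrivial
    exact Or.inr (Or.inr (Or.inr (Or.inr ⟨e.isSimpleGroup, (Nat.card_congr e.toEquiv).trans h.2⟩)))

/-- The members of the first four families are rigid. -/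
theorem coreRigid_of_four {L : Type u} [Group L] [Finite L] [IsSimpleGroup L]
    (hab : ¬ IsMulCommutative L) (h : InList L) (hJ : ¬ Cfsg.IsJ1 L) : CoreRigid L := by
  rcases h with ⟨n, F, i1, i2, h1, h2, ⟨f⟩⟩ | ⟨n, F, i1, i2, h1, h2, ⟨f⟩⟩ | ⟨n, F, i1, i2, h1, h2, ⟨f⟩⟩ |
    ⟨F, i1, i2, h1, h2, ⟨f⟩⟩ | h
  · exact coreRigid_psl_even h1 h2 f
  · exact coreRigid_sz ⟨F, i1, i2, n, h1, h2, ⟨f⟩⟩
  · exact coreRigid_psu h1 (by rw [h2, ← pow_mul, mul_comm, pow_mul]; norm_num) f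
  · exact coreRigid_psl_odd hab h1 h2.le f
  · exact absurd h hJ

/-- The simple groups with cyclic Sylow 2-intersections. -/
def SimpleClass : Prop :=
  ∀ (L : Type u) [Group L] [Finite L], IsSimpleGroup L → ¬ IsMulCommutative L → MeetCyclic L →
    InList L ∧ CoreRigid L

variable {G : Type u} [Group G] [Finite G]

/-- The structure over the solvable radical, given the classification in groups of at most that order. -/
theorem exists_odd_index (hns : ¬ Group.IsSolvable G) (hC : MeetCyclic G)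
    (R : Subgroup G) [R.Normal] (hR : Group.IsSolvable ↥R)
    (hRmax : ∀ N : Subgroup G, N.Normal → Group.IsSolvable ↥N → N ≤ R)
    (hS : ∀ (L : Type u) [Group L] [Finite L], Nat.card L ≤ Nat.card G → IsSimpleGroup L →
      ¬ IsMulCommutative L → MeetCyclic L → InList L ∧ CoreRigid L) :
    ∃ (G₁ : Subgroup G) (_ : G₁.Normal) (_ : (R.subgroupOf G₁).Normal), Odd G₁.index ∧ R ≤ G₁ ∧
      IsSimpleGroup (↥G₁ ⧸ R.subgroupOf G₁) ∧ ¬ IsMulCommutative (↥G₁ ⧸ R.subgroupOf G₁) ∧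
      InList (↥G₁ ⧸ R.subgroupOf G₁) := by
  haveI := hR
  have hC' : MeetCyclic (G ⧸ R) := S3305.result hC R
  have hns' : ¬ Group.IsSolvable (G ⧸ R) := fun h =>
    hns ((Group.isSolvable_iff_subgroup_quotient R).2 ⟨inferInstance, h⟩)
  have hrad : ∀ N : Subgroup (G ⧸ R), N.Normal → Group.IsSolvable N → N = ⊥ := by
    intro N hN hNs
    haveI := hNs
    set M := N.comap (QuotientGroup.mk' R) with hM
    have hRM : R ≤ M := fun x hx => by
      rw [hM, mem_comap, QuotientGroup.mk'_apply, (QuotientGroup.eq_one_iff x).2 hx]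
      exact one_mem N
    haveI : Group.IsSolvable M := Group.isSolvable_of_ker_le_range (inclusion hRM)
      (((QuotientGroup.mk' R).comp M.subtype).codRestrict N fun x => x.2) fun x hx => by
        have h1 : (QuotientGroup.mk' R) (x : G) = 1 := congrArg Subtype.val hx
        exact ⟨⟨x, (QuotientGroup.eq_one_iff _).1 h1⟩, Subtype.ext rfl⟩
    have hle := hRmax M (hN.comap _) inferInstance
    refine le_bot_iff.1 fun y hy => ?_
    obtain ⟨x, rfl⟩ := QuotientGroup.mk'_surjective R y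
    exact (QuotientGroup.eq_one_iff x).2 (hle hy)
  obtain ⟨L, hLn, hLs, hLab, hCL⟩ := exists_simple_normal hC' hns' hrad
  haveI := hLn
  haveI := hLs
  have hcard : Nat.card L ≤ Nat.card G :=
    ((Subgroup.card_le_card_group L)).trans (Nat.le_of_dvd Nat.card_pos (R.card_quotient_dvd_card))
  obtain ⟨hlist, hrig⟩ := hS L hcard hLs hLab (meet_subgroup hC' L)
  have hodd := odd_index hC' hLab hCL hrig
  set G₁ := L.comap (QuotientGroup.mk' R) with hG₁
  have hRG : R ≤ G₁ := fun x hx => by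
    rw [hG₁, mem_comap, QuotientGroup.mk'_apply, (QuotientGroup.eq_one_iff x).2 hx]
    exact one_mem L
  let f : G₁ →* L := ((QuotientGroup.mk' R).comp G₁.subtype).codRestrict L fun x => x.2
  have hf : Function.Surjective f := fun y => by
    obtain ⟨x, hx⟩ := QuotientGroup.mk'_surjective R y
    exact ⟨⟨x, show QuotientGroup.mk' R x ∈ L from hx.symm ▸ y.2⟩, Subtype.ext hx⟩
  have hker : f.ker = R.subgroupOf G₁ := by
    ext x
    rw [MonoidHom.mem_ker, mem_subgroupOf, ← QuotientGroup.eq_one_iff (x : G)]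
    exact Subtype.ext_iff
  haveI : (R.subgroupOf G₁).Normal := hker ▸ inferInstance
  let e : ↥G₁ ⧸ R.subgroupOf G₁ ≃* L :=
    (QuotientGroup.quotientMulEquivOfEq hker.symm).trans (QuotientGroup.quotientKerEquivOfSurjective f hf)
  haveI : Nontrivial (↥G₁ ⧸ R.subgroupOf G₁) := e.toEquiv.nontrivial
  refine ⟨G₁, hLn.comap _, inferInstance, ?_, hRG, e.isSimpleGroup, fun h => hLab ?_,
    hlist.congr e⟩
  · rwa [hG₁, index_comap_of_surjective _ (QuotientGroup.mk'_surjective R)]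
  · exact ⟨⟨fun a b => by
      obtain ⟨a', rfl⟩ := e.surjective a
      obtain ⟨b', rfl⟩ := e.surjective b
      rw [← map_mul, ← map_mul, h.is_comm.comm]⟩⟩

end Cfsg.Agent.MeetReduce
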