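import Mathlib.GroupTheory.OrderOfElement
import Mathlib.GroupTheory.Index
import Mathlib.GroupTheory.GroupAction.Quotient
import Cfsg.Agent.EqLemmas

/-!
# Odd order automisers with two-orbit stabilisers (owner: helper31)

* `two_orbits` : the shape of the orbits
* `card_le_eight` : an elementary abelian 2-group with an automiser of odd order moving `t`, the stabiliser of
  `t` being transitive modulo `⟨t⟩`, has order at most eight
-/

set_option autoImplicit false
set_option linter.unusedSectionVars false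
set_option linter.style.haveILetI false

namespace Cfsg.Agent.MeetReduce.OddTransitive

open Subgroup

universe u

variable {V : Type u} [CommGroup V] [Finite V] (A : Subgroup (MulAut V)) (t : V)

/-- An automorphism of odd order does not interchange two elements. -/
theorem no_swap (hA : Odd (Nat.card A)) {a : MulAut V} (ha : a ∈ A) {x y : V} (h1 : a x = y)
    (h2 : a y = x) : x = y := by
  have ho : Odd (orderOf a) := hA.of_dvd_nat (Subgroup.orderOf_dvd_natCard A ha)
  have h2x : (a ^ 2) x = x := by rw [pow_two]; show a (a x) = x; rw [h1, h2]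
  obtain ⟨k, hk⟩ := ho
  have hfix : ∀ n : ℕ, ((a ^ 2) ^ n) x = x := by
    intro n
    induction n with
    | zero => rw [pow_zero]; rfl
    | succ n ih => rw [pow_succ]; show ((a ^ 2) ^ n) ((a ^ 2) x) = x; rw [h2x, ih]
  have hax : (a ^ (2 * k + 1)) x = x := by rw [← hk, pow_orderOf_eq_one]; rfl
  rw [pow_succ', pow_mul] at hax
  have hax' : a (((a ^ 2) ^ k) x) = x := hax
  rw [hfix] at hax'
  exact hax'.symm.trans h1

/-- Transitivity of the stabiliser of `t` modulo `⟨t⟩`. -/
def StabTrans : Prop :=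
  ∀ x y : V, x ≠ 1 → x ≠ t → y ≠ 1 → y ≠ t → ∃ a ∈ A, a t = t ∧ (a x = y ∨ a x = t * y)

variable {A t}

set_option maxHeartbeats 800000 in
theorem card_le_eight (hA : Odd (Nat.card A)) (hexp : ∀ x : V, x * x = 1) (ht : t ≠ 1)
    (hst : StabTrans A t) (hmove : ∃ a ∈ A, a t ≠ t) : Nat.card V ≤ 8 := by
  classical
  letI : Fintype V := Fintype.ofFinite V
  by_contra hV
  push Not at hV
  have hinv : ∀ x : V, x⁻¹ = x := fun x => inv_eq_of_mul_eq_one_right (hexp x)
  -- the stabiliser
  let H : Subgroup (MulAut V) :=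
    { carrier := {a | a ∈ A ∧ a t = t}
      one_mem' := ⟨one_mem A, rfl⟩
      mul_mem' := fun {a b} ha hb => ⟨mul_mem ha.1 hb.1, by show a (b t) = t; rw [hb.2, ha.2]⟩
      inv_mem' := fun {a} ha => ⟨inv_mem ha.1, (MulEquiv.symm_apply_eq a).2 ha.2.symm⟩ }
  have hHA : H ≤ A := fun a ha => ha.1
  have hHodd : Odd (Nat.card H) := hA.of_dvd_nat (card_dvd_of_le hHA)
  letI : Fintype H := Fintype.ofFinite H
  -- the fixed points
  have hfix : ∀ x : V, (∀ a ∈ H, a x = x) → x = 1 ∨ x = t := by
    intro x hx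
    by_contra hne
    push Not at hne
    obtain ⟨y, hy⟩ : ∃ y : V, y ∉ ({1, t, x, t * x} : Finset V) := by
      by_contra hall
      push Not at hall
      have : Fintype.card V ≤ 4 := le_trans (Finset.card_le_card (fun y _ => hall y : Finset.univ ⊆ _))
        Finset.card_le_four
      rw [Nat.card_eq_fintype_card] at hV
      omega
    simp only [Finset.mem_insert, Finset.mem_singleton, not_or] at hy
    obtain ⟨a, ha, hat, h⟩ := hst x y hne.1 hne.2 hy.1 hy.2.1
    rw [hx a ⟨ha, hat⟩] at h
    rcases h with h | h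
    · exact hy.2.2.1 h.symm
    · exact hy.2.2.2 (by rw [h, ← mul_assoc, hexp, one_mul])
  -- the invariant complement
  let φ : V →* V :=
    MonoidHom.mk' (fun x => ∏ h : H, (h : MulAut V) x) fun x y => by
      simp only [map_mul, Finset.prod_mul_distrib]
  have hφH : ∀ (a : MulAut V) (ha : a ∈ H) (x : V), φ (a x) = φ x := fun a ha x => by
    show (∏ h : H, (h : MulAut V) (a x)) = ∏ h : H, (h : MulAut V) x
    exact Fintype.prod_equiv (Equiv.mulRight (⟨a, ha⟩ : H)) _ _ fun h => rfl
  have hφrange : ∀ x : V, φ x = 1 ∨ φ x = t := fun x => hfix _ fun a ha => by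
    show a (∏ h : H, (h : MulAut V) x) = ∏ h : H, (h : MulAut V) x
    rw [map_prod]
    exact Fintype.prod_equiv (Equiv.mulLeft (⟨a, ha⟩ : H)) _ _ fun h => rfl
  have hφt : φ t = t := by
    show (∏ h : H, (h : MulAut V) t) = t
    rw [Finset.prod_congr rfl (fun h _ => h.2.2), Finset.prod_const, Finset.card_univ,
      ← Nat.card_eq_fintype_card]
    obtain ⟨k, hk⟩ := hHodd
    rw [hk, pow_succ, pow_mul, pow_two, hexp, one_pow, one_mul]
  have hmul : ∀ x y : V, φ x = t → φ y = t → φ (x * y) = 1 := fun x y hx hy => by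
    rw [map_mul, hx, hy, hexp]
  -- every non-trivial element is in the orbit of `t`
  have horb : ∀ y : V, y ≠ 1 → ∃ a ∈ A, a t = y := by
    obtain ⟨a₀, ha₀, ha₀t⟩ := hmove
    set x₀ := a₀ t with hx₀
    have hx₀1 : x₀ ≠ 1 := fun h => ht (by rwa [hx₀, MulEquiv.map_eq_one_iff] at h)
    by_contra hall
    push Not at hall
    obtain ⟨y₀, hy₀1, hy₀⟩ := hall
    -- the orbit
    letI : Fintype A := Fintype.ofFinite A
    let O : Finset V := Finset.univ.image (fun a : A => (a : MulAut V) t)
    have hOmem : ∀ y, y ∈ O ↔ ∃ a ∈ A, a t = y := fun y => by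
      simp only [O, Finset.mem_image, Finset.mem_univ, true_and, Subtype.exists, exists_prop]
    have hO1 : ∀ y ∈ O, y ≠ 1 := fun y hy h => by
      obtain ⟨a, -, ha⟩ := (hOmem y).1 hy
      rw [h, MulEquiv.map_eq_one_iff] at ha
      exact ht ha
    have hclass : ∀ y : V, y ≠ 1 → y ≠ t → y ∈ O ∨ t * y ∈ O := fun y hy1 hyt => by
      obtain ⟨h, hh, -, hc⟩ := hst x₀ y hx₀1 ha₀t hy1 hyt
      rcases hc with hc | hc
      · exact Or.inl ((hOmem y).2 ⟨h * a₀, mul_mem hh ha₀, hc⟩)
      · exact Or.inr ((hOmem _).2 ⟨h * a₀, mul_mem hh ha₀, hc⟩)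
    have hone : ∀ y : V, y ≠ t → y ∈ O → t * y ∉ O := by
      intro y hyt hy hty
      have hy1 := hO1 y hy
      obtain ⟨a, ha, hat⟩ := (hOmem y).1 hy
      obtain ⟨b, hb, hbt⟩ := (hOmem _).1 hty
      have hy₀t : y₀ ≠ t := fun h => hy₀ 1 (one_mem A) h.symm
      obtain ⟨h, hh, hht, hc⟩ := hst y y₀ hy1 hyt hy₀1 hy₀t
      rcases hc with hc | hc
      · exact hy₀ (h * a) (mul_mem hh ha) (by show h (a t) = y₀; rw [hat, hc])
      · refine hy₀ (h * b) (mul_mem hh hb) ?_
        show h (b t) = y₀
        rw [hbt, map_mul, hht, hc, ← mul_assoc, hexp, one_mul]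
    have hOodd : Odd O.card := by
      let f : MulAut V → V := fun a => a t
      have hsum : Fintype.card A = ∑ y ∈ O, (Finset.univ.filter (fun a : A => (a : MulAut V) t = y)).card :=
        Finset.card_eq_sum_card_fiberwise fun a _ => Finset.mem_image_of_mem _ (Finset.mem_univ a)
      have hfib : ∀ y ∈ O, (Finset.univ.filter (fun a : A => (a : MulAut V) t = y)).card =
          (Finset.univ.filter (fun a : A => (a : MulAut V) t = t)).card := by
        intro y hy
        obtain ⟨c, hc, hct⟩ := (hOmem y).1 hy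
        refine (Finset.card_equiv (Equiv.mulLeft (⟨c, hc⟩ : A)) fun a => ?_).symm
        simp only [Finset.mem_filter, Finset.mem_univ, true_and]
        show _ ↔ c ((a : MulAut V) t) = y
        rw [← hct, c.injective.eq_iff]
      rw [Finset.sum_congr rfl hfib, Finset.sum_const, smul_eq_mul, ← Nat.card_eq_fintype_card] at hsum
      exact hA.of_dvd_nat ⟨_, hsum⟩
    -- it meets every coset of `⟨t⟩` but the trivial one in one element
    have htO : t ∈ O := (hOmem t).2 ⟨1, one_mem A, rfl⟩
    have hsplit : Finset.univ = O ∪ O.image (fun y => t * y) := by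
      refine (Finset.eq_univ_iff_forall.2 fun y => ?_).symm
      rw [Finset.mem_union]
      by_cases hy1 : y = 1
      · exact Or.inr (Finset.mem_image.2 ⟨t, htO, by rw [hexp, hy1]⟩)
      by_cases hyt : y = t
      · exact Or.inl (hyt ▸ htO)
      rcases hclass y hy1 hyt with h | h
      · exact Or.inl h
      · exact Or.inr (Finset.mem_image.2 ⟨_, h, by rw [← mul_assoc, hexp, one_mul]⟩)
    have hdis : Disjoint O (O.image (fun y => t * y)) := by
      rw [Finset.disjoint_left]
      intro y hy hy'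
      obtain ⟨z, hz, rfl⟩ := Finset.mem_image.1 hy'
      by_cases hzt : z = t
      · exact hO1 _ hy (by rw [hzt, hexp])
      · exact hone z hzt hz hy
    have hcard := congrArg Finset.card hsplit
    rw [Finset.card_union_of_disjoint hdis, Finset.card_image_of_injective _ (mul_right_injective t),
      Finset.card_univ] at hcard
    have h4 : 2 ^ 3 ∣ Fintype.card V := by
      have hp : IsPGroup 2 V := fun g => ⟨1, by rw [pow_one, pow_two, hexp]⟩
      haveI : Fact (Nat.Prime 2) := ⟨Nat.prime_two⟩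
      obtain ⟨n, hn⟩ := IsPGroup.iff_card.1 hp
      rw [hn] at hV
      rw [← Nat.card_eq_fintype_card, hn]
      refine pow_dvd_pow 2 ?_
      by_contra hlt
      have : 2 ^ n ≤ 2 ^ 2 := Nat.pow_le_pow_right (by norm_num) (by omega)
      omega
    obtain ⟨c, hc⟩ := h4
    obtain ⟨k, hk⟩ := hOodd
    omega
  choose! g hgA hgt using horb
  -- `F s x`: `x` is outside the complement at `s`
  let F : V → V → Prop := fun s x => φ ((g s).symm x) = t
  have hFeq : ∀ (a : MulAut V), a ∈ A → ∀ s x : V, s ≠ 1 → (F (a s) (a x) ↔ F s x) := by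
    intro a ha s x hs
    have hs' : a s ≠ 1 := fun h => hs (a.injective (h.trans (map_one a).symm))
    have hh : (g (a s))⁻¹ * (a * g s) ∈ H := by
      refine ⟨mul_mem (inv_mem (hgA _ hs')) (mul_mem ha (hgA _ hs)), ?_⟩
      show (g (a s)).symm (a (g s t)) = t
      rw [hgt _ hs, MulEquiv.symm_apply_eq, hgt _ hs']
    show φ ((g (a s)).symm (a x)) = t ↔ φ ((g s).symm x) = t
    have h1 : (g (a s)).symm (a x) = ((g (a s))⁻¹ * (a * g s)) ((g s).symm x) := by
      show _ = (g (a s)).symm (a (g s ((g s).symm x)))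
      rw [MulEquiv.apply_symm_apply]
    rw [h1, hφH _ hh]
  have hFlin : ∀ s x y : V, F s (x * y) ↔ (F s x ↔ ¬ F s y) := by
    intro s x y
    show φ ((g s).symm (x * y)) = t ↔ (φ ((g s).symm x) = t ↔ ¬ φ ((g s).symm y) = t)
    rw [map_mul, map_mul]
    rcases hφrange ((g s).symm x) with hx | hx <;> rcases hφrange ((g s).symm y) with hy | hy <;>
      simp [hx, hy, hexp, ht, ht.symm]
  -- antisymmetry
  have hpair : ∀ s x y : V, s ≠ 1 → x ≠ 1 → y ≠ 1 → x ≠ s → y ≠ s → (F s x ↔ F s y) →
      ∃ a ∈ A, a s = s ∧ a x = y := by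
    intro s x y hs hx hy hxs hys hiff
    set u := (g s).symm x with hu
    set w := (g s).symm y with hw
    have hne : ∀ z : V, z ≠ 1 → z ≠ s → (g s).symm z ≠ 1 ∧ (g s).symm z ≠ t := fun z hz hzs =>
      ⟨fun h => hz (by rw [← (g s).apply_symm_apply z, h, map_one]),
        fun h => hzs (by rw [← (g s).apply_symm_apply z, h, hgt s hs])⟩
    obtain ⟨h, hh, hht, hc⟩ := hst u w (hne x hx hxs).1 (hne x hx hxs).2 (hne y hy hys).1 (hne y hy hys).2
    have hc' : h u = w := by
      rcases hc with hc | hc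
      · exact hc
      exfalso
      have h1 : φ u = φ (t * w) := by rw [← hc, hφH h ⟨hh, hht⟩]
      rw [map_mul, hφt] at h1
      rcases hφrange u with hu' | hu' <;> rcases hφrange w with hw' | hw' <;>
        simp [F, ← hu, ← hw, hu', hw', hexp, ht, ht.symm] at hiff h1
    refine ⟨g s * h * (g s)⁻¹, mul_mem (mul_mem (hgA s hs) hh) (inv_mem (hgA s hs)), ?_, ?_⟩
    · show g s (h ((g s).symm s)) = s
      rw [show (g s).symm s = t by rw [MulEquiv.symm_apply_eq, hgt s hs], hht, hgt s hs]
    · show g s (h ((g s).symm x)) = y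
      rw [← hu, hc', hw, MulEquiv.apply_symm_apply]
  have hanti : ∀ s x : V, s ≠ 1 → x ≠ 1 → x ≠ s → (F x s ↔ ¬ F s x) := by
    intro s x hs hx hxs
    by_contra hne
    have hiff : F x s ↔ F s x := by tauto
    set a := g x * (g s)⁻¹ with ha
    have haA : a ∈ A := mul_mem (hgA x hx) (inv_mem (hgA s hs))
    have has : a s = x := by
      show g x ((g s).symm s) = x
      rw [show (g s).symm s = t by rw [MulEquiv.symm_apply_eq, hgt s hs], hgt x hx]
    set z := a.symm s with hz
    have haz : a z = s := a.apply_symm_apply s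
    have hz1 : z ≠ 1 := fun h => hs (by rw [← haz, h, map_one])
    have hzs : z ≠ s := fun h => hxs (by rw [← has, ← h, haz, h])
    have hF : F s x ↔ F s z := by
      have h1 := hFeq a haA s z hs
      rw [has, haz] at h1
      exact hiff.symm.trans h1
    obtain ⟨c, hc, hcs, hcx⟩ := hpair s x z hs hx hz1 hxs hzs hF
    exact hxs (no_swap A hA (mul_mem haA hc) (x := s) (y := x) (by show a (c s) = x; rw [hcs, has])
      (by show a (c x) = s; rw [hcx, haz])).symm
  -- two pairs in general position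
  obtain ⟨x₀, hx₀⟩ : ∃ x : V, x ≠ 1 ∧ x ≠ t := by
    obtain ⟨y, hy⟩ : ∃ y : V, y ∉ ({1, t} : Finset V) := by
      by_contra hall
      push Not at hall
      have : Fintype.card V ≤ 2 := le_trans (Finset.card_le_card (fun y _ => hall y : Finset.univ ⊆ _))
        Finset.card_le_two
      rw [Nat.card_eq_fintype_card] at hV
      omega
    exact ⟨y, by simpa using hy⟩
  have hB : ∀ (W : Finset V), W.card ≤ 8 → ∃ y : V, y ∉ W := fun W hW => by
    by_contra hall
    push Not at hall
    have : Fintype.card V ≤ W.card := Finset.card_le_card (fun y _ => hall y : Finset.univ ⊆ _)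
    rw [Nat.card_eq_fintype_card] at hV
    omega
  set a := t
  set b := x₀
  obtain ⟨x, hx⟩ := hB {1, a, b, a * b} (le_trans Finset.card_le_four (by norm_num))
  obtain ⟨y, hy⟩ := hB ({1, a, b, a * b} ∪ ({1, a, b, a * b} : Finset V).image (fun w => x * w)) (by
    refine le_trans (Finset.card_union_le _ _) ?_
    refine le_trans (add_le_add Finset.card_le_four (Finset.card_image_le.trans Finset.card_le_four)) ?_
    norm_num)
  simp only [Finset.mem_insert, Finset.mem_singleton, Finset.mem_union, Finset.mem_image,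
    exists_eq_or_imp, exists_eq_left, not_or, mul_one] at hx hy
  obtain ⟨hx1, hxa, hxb, hxab⟩ := hx
  obtain ⟨⟨hy1, hya, hyb, hyab⟩, hyx, hyxa, hyxb, hyxab⟩ := hy
  have hb1 : b ≠ 1 := hx₀.1
  have hba : b ≠ a := hx₀.2
  have hab1 : a * b ≠ 1 := fun h => hba ((inv_eq_of_mul_eq_one_right h).symm.trans (hinv a))
  have hxy : ∀ w : V, y ≠ x * w → x * y ≠ w := fun w hw h => hw (by rw [← h, ← mul_assoc, hexp, one_mul])
  have hxy1 : x * y ≠ 1 := hxy 1 (by rw [mul_one]; exact fun h => hyx h.symm)
  have key : ∀ s : V, s ≠ 1 → s ≠ a → s ≠ b → s ≠ a * b →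
      (F (a * b) s ↔ (F a s ↔ F b s)) := by
    intro s hs hsa hsb hsab
    rw [hanti s (a * b) hs hab1 (Ne.symm hsab), hanti s a hs ht (Ne.symm hsa),
      hanti s b hs hb1 (Ne.symm hsb), hFlin]
    tauto
  have e1 := key x hx1 hxa hxb hxab
  have e2 := key y hy1 hya hyb hyab
  have e3 := key (x * y) hxy1 (hxy a fun h => hyxa h.symm) (hxy b fun h => hyxb h.symm)
    (hxy (a * b) fun h => hyxab h.symm)
  rw [hFlin (a * b), hFlin a, hFlin b] at e3
  tauto

end Cfsg.Agent.MeetReduce.OddTransitive
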