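/-
A simple normal subgroup has odd index (owner: helper31).

* `CoreRigid`: the properties used of the simple group.
* `odd_index`: with trivial centraliser, when the normaliser of a Sylow 2-subgroup of `L` has one
  Sylow 2-subgroup.
-/
import Cfsg.Agent.Lib.MeetReduce.Basic
import Cfsg.Agent.Lib.Coprime.Invariant
import Cfsg.Agent.Lib.ZStar.Glauberman
import Cfsg.Agent.Lib.ZStarPrimePower.Proved
import Cfsg.Agent.S0201
import Cfsg.Agent.Lib.ClassIndex.Basic

set_option autoImplicit false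
set_option linter.style.haveILetI false

namespace Cfsg.Agent.MeetReduce

open Subgroup CyclicMeet
open scoped Pointwise

universe u

/-- What is used of the simple group: the involutions of a Sylow 2-subgroup are central in it and are
fused in its normaliser, and an automorphism of order two fixing them and a complement in the
normaliser fixes the Sylow subgroup pointwise. -/
structure CoreRigid (L : Type u) [Group L] : Prop where
  noncyclic : ∀ T : Sylow 2 L, ¬ IsCyclic (T : Subgroup L)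
  central : ∀ T : Sylow 2 L, ∀ z ∈ T, z * z = 1 → ∀ x ∈ T, x * z = z * x
  trans : ∀ T : Sylow 2 L, ∀ x ∈ T, x ≠ 1 → x * x = 1 → ∀ y ∈ T, y ≠ 1 → y * y = 1 →
    ∃ n ∈ normalizer ((T : Subgroup L) : Set L), n * x * n⁻¹ = y
  rigid : ∀ (T : Sylow 2 L) (D : Subgroup L) (σ : MulAut L),
    D ≤ normalizer ((T : Subgroup L) : Set L) → Odd (Nat.card D) →
    (T : Subgroup L) ⊔ D = normalizer ((T : Subgroup L) : Set L) → (∀ x, σ (σ x) = x) →
    (∀ x ∈ T, σ x ∈ T) → (∀ z ∈ T, z * z = 1 → σ z = z) → (∀ d ∈ D, σ d = d) →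
    ∀ x ∈ T, σ x = x

variable {G : Type u} [Group G] [Finite G]

/-- The index is odd, when a Sylow 2-subgroup of `L` lies in only one of `G`. -/
theorem odd_index_of_unique {L : Subgroup G} [L.Normal] [IsSimpleGroup L]
    (hLab : ¬ IsMulCommutative L) (hCL : centralizer (L : Set G) = ⊥) (hL : CoreRigid L)
    (huniq : ∀ S S' : Sylow 2 G, (S : Subgroup G) ⊓ L ≤ (S' : Subgroup G) → S = S') :
    Odd L.index := by
  classical
  haveI : Fact (Nat.Prime 2) := ⟨Nat.prime_two⟩
  refine Nat.not_even_iff_odd.1 fun heven => ?_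
  obtain ⟨S⟩ : Nonempty (Sylow 2 G) := inferInstance
  set T := (S : Subgroup G) ⊓ L with hT
  have hTp : IsPGroup 2 ↥(T.subgroupOf L) := (S.isPGroup'.to_le inf_le_left).comap_subtype
  have hTrel : ¬ 2 ∣ (T.subgroupOf L).index := by
    have h1 : T.subgroupOf L = (S : Subgroup G).subgroupOf L := inf_subgroupOf_right _ _
    rw [h1]
    exact fun h => S.not_dvd_index (h.trans (ClassIndex.relIndex_dvd_index_of_normal_right _ L))
  let T₀ : Sylow 2 L := hTp.toSylow hTrel
  have hT₀ : ∀ x : L, x ∈ T₀ ↔ (x : G) ∈ T := fun x => Iff.rfl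
  have hTnc : ¬ IsCyclic T := fun h => hL.noncyclic T₀ (by
    haveI := h
    exact isCyclic_of_injective (subgroupOfEquivOfLe (inf_le_right : T ≤ L)).toMonoidHom
      (MulEquiv.injective _))
  -- the Sylow subgroup is normal in the normaliser of `T`
  have hTS : T ≤ (S : Subgroup G) := inf_le_left
  have hST : ∀ s ∈ (S : Subgroup G), ∀ x ∈ T, s * x * s⁻¹ ∈ T := fun s hs x hx =>
    ⟨mul_mem (mul_mem hs (hTS hx)) ((S : Subgroup G).inv_mem hs),
      (inferInstance : L.Normal).conj_mem x hx.2 s⟩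
  have hNS : ∀ n ∈ normalizer ((T : Subgroup G) : Set G), n ∈ normalizer ((S : Subgroup G) : Set G) := by
    intro n hn
    refine Sylow.smul_eq_iff_mem_normalizer.1 ?_
    refine (huniq S _ (fun x hx => ?_)).symm
    rw [Sylow.coe_subgroup_smul]
    have h1 : n⁻¹ * x * n ∈ T := by
      have h2 := (mem_normalizer_iff.1 hn (n⁻¹ * x * n)).2
      exact h2 (by rw [show n * (n⁻¹ * x * n) * n⁻¹ = x by group]; exact hx)
    have h2 := smul_mem_pointwise_smul _ (MulAut.conj n) _ (hTS h1)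
    rwa [MulAut.smul_def, MulAut.conj_apply, show n * (n⁻¹ * x * n) * n⁻¹ = x by group] at h2
  -- an odd complement in the normaliser inside `L`
  set N₀ := normalizer ((T₀ : Subgroup L) : Set L) with hN₀
  have hTN : (T₀ : Subgroup L) ≤ N₀ := le_normalizer
  obtain ⟨D₀, hD₀⟩ := exists_right_complement'_of_coprime (N := (T₀ : Subgroup L).subgroupOf N₀) (by
    obtain ⟨k, hk⟩ := IsPGroup.iff_card.1 T₀.isPGroup'
    rw [Nat.card_congr (subgroupOfEquivOfLe hTN).toEquiv, hk]
    refine Nat.Coprime.pow_left k ((Nat.prime_two.coprime_iff_not_dvd).2 fun h => T₀.not_dvd_index ?_)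
    exact h.trans (relIndex_dvd_index_of_le hTN))
  set D₁ := D₀.map N₀.subtype with hD₁
  have hD₁le : D₁ ≤ N₀ := map_subtype_le _
  have hD₁odd : Odd (Nat.card D₁) := by
    rw [hD₁, Nat.card_congr (D₀.equivMapOfInjective _ N₀.subtype_injective).toEquiv.symm,
      ← hD₀.symm.index_eq_card]
    exact Nat.not_even_iff_odd.1 fun h =>
      T₀.not_dvd_index ((even_iff_two_dvd.1 h).trans (relIndex_dvd_index_of_le hTN))
  have hsup : (T₀ : Subgroup L) ⊔ D₁ = N₀ := by
    refine le_antisymm (sup_le hTN hD₁le) fun n hn => ?_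
    obtain ⟨⟨a, b⟩, hab⟩ := hD₀.2 (⟨n, hn⟩ : N₀)
    have h1 : ((a : N₀) : L) * ((b : N₀) : L) = n := congrArg Subtype.val hab
    rw [← h1]
    exact mul_mem_sup a.2 ⟨_, b.2, rfl⟩
  set D := D₁.map L.subtype with hD
  have hDcard : Nat.card D = Nat.card D₁ :=
    (Nat.card_congr (D₁.equivMapOfInjective _ L.subtype_injective).toEquiv).symm
  have hDT : D ≤ normalizer ((T : Subgroup G) : Set G) := by
    rintro _ ⟨d, hd, rfl⟩
    show (d : G) ∈ _
    refine mem_normalizer_iff.2 fun x => ⟨fun hx => ?_, fun hx => ?_⟩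
    · exact (mem_normalizer_iff.1 (hD₁le hd) ⟨x, hx.2⟩).1 hx
    · have hxL : x ∈ L := by
        have h1 := (inferInstance : L.Normal).conj_mem _ hx.2 (d : G)⁻¹
        rwa [show (d : G)⁻¹ * ((d : G) * x * (d : G)⁻¹) * (d : G)⁻¹⁻¹ = x by group] at h1
      exact (mem_normalizer_iff.1 (hD₁le hd) ⟨x, hxL⟩).2 hx
  have hDS : D ≤ normalizer ((S : Subgroup G) : Set G) := fun d hd => hNS d (hDT hd)
  -- an element of `S` outside `T` with square in `T`
  obtain ⟨s₀, hs₀, hs₀T, hs₀2⟩ : ∃ s₀ ∈ (S : Subgroup G), s₀ ∉ T ∧ s₀ * s₀ ∈ T := by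
    haveI : (T.subgroupOf (S : Subgroup G)).Normal := ⟨fun x hx g => hST g g.2 x hx⟩
    have h2 : 2 ∣ Nat.card ((S : Subgroup G) ⧸ T.subgroupOf (S : Subgroup G)) := by
      obtain ⟨k, hk⟩ := IsPGroup.iff_card.1 (S.isPGroup'.to_quotient (T.subgroupOf (S : Subgroup G)))
      rcases Nat.eq_zero_or_pos k with rfl | hk0
      · exfalso
        have hle : (S : Subgroup G) ≤ L := fun x hx => by
          haveI := (Nat.card_eq_one_iff_unique.1 hk).1
          have h1 : ((⟨x, hx⟩ : (S : Subgroup G)) : (S : Subgroup G) ⧸ T.subgroupOf (S : Subgroup G)) = 1 :=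
            Subsingleton.elim _ _
          exact (mem_subgroupOf.1 ((QuotientGroup.eq_one_iff _).1 h1)).2
        exact S.not_dvd_index ((even_iff_two_dvd.1 heven).trans (index_dvd_of_le hle))
      · rw [hk]; exact dvd_pow_self 2 hk0.ne'
    obtain ⟨q, hq⟩ := exists_prime_orderOf_dvd_card' 2 h2
    obtain ⟨⟨x, hx⟩, rfl⟩ := QuotientGroup.mk'_surjective _ q
    refine ⟨x, hx, fun h => ?_, ?_⟩
    · have h1 : QuotientGroup.mk' (T.subgroupOf (S : Subgroup G)) ⟨x, hx⟩ = 1 :=
        (QuotientGroup.eq_one_iff _).2 h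
      rw [h1, orderOf_one] at hq
      omega
    · have h1 := pow_orderOf_eq_one (QuotientGroup.mk' (T.subgroupOf (S : Subgroup G)) ⟨x, hx⟩)
      rw [hq, pow_two, ← map_mul] at h1
      exact ((QuotientGroup.eq_one_iff _).1 h1 : (_ ∈ T.subgroupOf (S : Subgroup G)))
  obtain ⟨s, ⟨hsS, hsD⟩, hsT⟩ := Coprime.exists_mem_centralizer_of_coset (A := D) (K := (S : Subgroup G))
    hDS (by
      obtain ⟨k, hk⟩ := IsPGroup.iff_card.1 S.isPGroup'
      rw [hDcard, hk]
      exact (Nat.coprime_two_right.2 hD₁odd).pow_right k)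
    (Or.inr (by haveI := S.isPGroup'.isNilpotent; infer_instance)) hTS hDT hs₀ (fun a ha => by
      refine ⟨mul_mem ((mem_normalizer_iff.1 (hDS ha) s₀).1 hs₀) ((S : Subgroup G).inv_mem hs₀), ?_⟩
      have haL : a ∈ L := by obtain ⟨d, -, rfl⟩ := ha; exact d.2
      have h1 := (inferInstance : L.Normal).conj_mem _ (inv_mem haL) s₀
      rw [show a * s₀ * a⁻¹ * s₀⁻¹ = a * (s₀ * a⁻¹ * s₀⁻¹) by group]
      exact mul_mem haL h1)
  have hsL : s ∉ L := fun h => hs₀T ⟨hs₀, by
    have := mul_mem (L.inv_mem hsT.2) h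
    rwa [show (s * s₀⁻¹)⁻¹ * s = s₀ by group] at this⟩
  have hs2T : s * s ∈ T := by
    have h1 : s * s = (s * s₀⁻¹) * (s₀ * (s * s₀⁻¹) * s₀⁻¹) * (s₀ * s₀) := by group
    rw [h1]
    exact mul_mem (mul_mem hsT (hST s₀ hs₀ _ hsT)) hs₀2
  have hcomm : ∀ d ∈ D₁, (d : G) * s = s * d := fun d hd => hsD _ ⟨d, hd, rfl⟩
  -- every involution of `T` is moved around by `D`
  have htrans : ∀ x ∈ T₀, x ≠ 1 → x * x = 1 → ∀ y ∈ T₀, y ≠ 1 → y * y = 1 → ∃ d ∈ D₁, d * x * d⁻¹ = y := by
    intro x hx hx1 hxx y hy hy1 hyy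
    obtain ⟨n, hn, hnx⟩ := hL.trans T₀ x hx hx1 hxx y hy hy1 hyy
    rw [← hN₀, ← hsup] at hn
    obtain ⟨a, ha, d, hd, rfl⟩ := (Coprime.mem_sup_iff (hD₁le : D₁ ≤ N₀)).1 hn
    refine ⟨d, hd, ?_⟩
    have h1 := hL.central T₀ y hy hyy a ha
    calc d * x * d⁻¹ = a⁻¹ * (a * d * x * (a * d)⁻¹) * a := by group
      _ = a⁻¹ * y * a := by rw [hnx]
      _ = y := by rw [mul_assoc, ← h1, inv_mul_cancel_left]
  -- `s` is an involution
  have hs2 : s * s = 1 := by
    by_contra hne
    set w : L := ⟨s * s, hs2T.2⟩ with hw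
    have hwT : w ∈ T₀ := hs2T
    obtain ⟨j, hj⟩ := (IsPGroup.iff_orderOf.1 T₀.isPGroup') ⟨w, hwT⟩
    rw [Subgroup.orderOf_mk] at hj
    have hj0 : 1 ≤ j := by
      rcases Nat.eq_zero_or_pos j with rfl | h
      · rw [pow_zero, orderOf_eq_one_iff] at hj
        exact absurd (congrArg Subtype.val hj) hne
      · exact h
    set z := w ^ 2 ^ (j - 1) with hz
    have hzo : orderOf z = 2 := by
      rw [hz, orderOf_pow' _ (by positivity), hj, Nat.gcd_eq_right (pow_dvd_pow 2 (by omega)),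
        Nat.pow_div (by omega) (by norm_num), show j - (j - 1) = 1 by omega, pow_one]
    have hzT : z ∈ T₀ := pow_mem hwT _
    have hz1 : z ≠ 1 := fun h => by rw [h, orderOf_one] at hzo; omega
    have hzz : z * z = 1 := by rw [← pow_two, ← hzo, pow_orderOf_eq_one]
    have hfix : ∀ d ∈ D₁, d * z * d⁻¹ = z := fun d hd => by
      have h1 : (d : G) * (s * s) * (d : G)⁻¹ = s * s := by
        rw [← mul_assoc (d : G), hcomm d hd, mul_assoc s, hcomm d hd]; group
      have h2 : d * w * d⁻¹ = w := Subtype.ext h1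
      rw [hz, ← conj_pow, h2]
    -- only one involution
    have huniq : ∀ y ∈ T₀, y * y = 1 → y ≠ 1 → y = z := fun y hy hyy hy1 => by
      obtain ⟨d, hd, hdy⟩ := htrans z hzT hz1 hzz y hy hy1 hyy
      rw [← hdy, hfix d hd]
    have hu : ∀ x y : (T₀ : Subgroup L), orderOf x = 2 → y ^ 2 = 1 → y ∈ zpowers x := by
      intro x y hx hy
      rcases (Nat.dvd_prime Nat.prime_two).mp (orderOf_dvd_of_pow_eq_one hy) with h | h
      · rw [orderOf_eq_one_iff.mp h]; exact one_mem _
      have hy' : (y : L) = z := huniq y y.2 (by rw [← pow_two]; exact congrArg Subtype.val hy)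
        fun e => by rw [Subtype.ext e (a2 := (1 : (T₀ : Subgroup L))), orderOf_one] at h; omega
      have hx' : (x : L) = z := huniq x x.2
        (by rw [← pow_two]; exact congrArg Subtype.val (show x ^ 2 = 1 by
          have h2 := pow_orderOf_eq_one x; rwa [hx] at h2))
        fun e => by rw [Subtype.ext e (a2 := (1 : (T₀ : Subgroup L))), orderOf_one] at hx; omega
      rw [Subtype.ext (hy'.trans hx'.symm)]
      exact mem_zpowers _
    rcases PGroup.unique_order_p_cases (p := 2) T₀.isPGroup' hu with h | ⟨-, k, ⟨e⟩⟩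
    · exact hL.noncyclic T₀ h
    · rcases Nat.eq_zero_or_pos k with rfl | hk
      · exact hL.noncyclic T₀ (e.isCyclic.2 QuaternionGroup.quaternionGroup_one_isCyclic)
      -- Brauer–Suzuki
      have h2 := S0201.result T₀ (k - 1)
        (e.trans (MulEquiv.cast (M := fun m => QuaternionGroup (2 ^ m)) (show k = k - 1 + 1 by omega)))
        fun N hN hodd => hN.eq_bot_or_eq_top.resolve_right fun h => by
          rw [h, Subgroup.card_top] at hodd
          exact Nat.not_even_iff_odd.2 hodd (even_iff_two_dvd.2 (hzo ▸ orderOf_dvd_natCard z))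
      rcases (inferInstance : (center L).Normal).eq_bot_or_eq_top with h | h
      · rw [h, Subgroup.card_bot] at h2; omega
      · exact hLab ⟨⟨fun a b => mem_center_iff.1 (h ▸ mem_top b) a⟩⟩
  have hs1 : s ≠ 1 := fun h => hsL (h ▸ one_mem L)
  -- `s` centralises `T`
  have hTbot : T ≠ ⊥ := fun h => hTnc (by rw [h]; infer_instance)
  obtain ⟨z₀, hz₀T, hz₀o, hz₀s⟩ : ∃ z ∈ T, orderOf z = 2 ∧ s * z = z * s := by
    haveI : (T.subgroupOf (S : Subgroup G)).Normal := ⟨fun x hx g => hST g g.2 x hx⟩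
    haveI : Group.IsNilpotent (S : Subgroup G) := S.isPGroup'.isNilpotent
    have hne : T.subgroupOf (S : Subgroup G) ⊓ center (S : Subgroup G) ≠ ⊥ :=
      PGroup.inf_center_ne_bot S.isPGroup' fun h =>
        hTbot (by rwa [subgroupOf_eq_bot, disjoint_iff, inf_of_le_left hTS] at h)
    have hd : 2 ∣ Nat.card ↥(T.subgroupOf (S : Subgroup G) ⊓ center (S : Subgroup G)) := by
      obtain ⟨k, hk⟩ := IsPGroup.iff_card.1
        (S.isPGroup'.to_subgroup (T.subgroupOf (S : Subgroup G) ⊓ center (S : Subgroup G)))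
      rcases Nat.eq_zero_or_pos k with rfl | h
      · exact absurd (Subgroup.card_eq_one.1 hk) hne
      · rw [hk]; exact dvd_pow_self 2 h.ne'
    obtain ⟨z, hz⟩ := exists_prime_orderOf_dvd_card' 2 hd
    refine ⟨((z : (S : Subgroup G)) : G), z.2.1, by rw [Subgroup.orderOf_coe, Subgroup.orderOf_coe, hz], ?_⟩
    exact congrArg Subtype.val (mem_center_iff.1 z.2.2 ⟨s, hsS⟩)
  let σ : MulAut L := MulAut.conjNormal s
  have hσ : ∀ x : L, ((σ x : L) : G) = s * x * s⁻¹ := fun x => rfl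
  have hsinv : s⁻¹ = s := inv_eq_of_mul_eq_one_right hs2
  have hσ2 : ∀ x, σ (σ x) = x := fun x => Subtype.ext (by
    rw [hσ, hσ, hsinv, ← mul_assoc, ← mul_assoc, hs2, one_mul, mul_assoc, hs2, mul_one])
  have hσD : ∀ d ∈ D₁, σ d = d := fun d hd => Subtype.ext (by
    rw [hσ, ← hcomm d hd, mul_inv_cancel_right])
  have hσinv : ∀ z ∈ T₀, z * z = 1 → σ z = z := by
    intro y hy hyy
    by_cases hy1 : y = 1
    · rw [hy1, map_one]
    have hz₀1 : (⟨z₀, hz₀T.2⟩ : L) ≠ 1 := fun h => by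
      have h' : z₀ = 1 := congrArg Subtype.val h
      rw [h', orderOf_one] at hz₀o; omega
    obtain ⟨d, hd, hdy⟩ := htrans ⟨z₀, hz₀T.2⟩ hz₀T hz₀1
      (Subtype.ext (show z₀ * z₀ = 1 by rw [← pow_two, ← hz₀o, pow_orderOf_eq_one])) y hy hy1 hyy
    rw [← hdy, map_mul, map_mul, map_inv, hσD d hd]
    congr 2
    exact Subtype.ext (by rw [hσ]; show s * z₀ * s⁻¹ = z₀; rw [hz₀s, mul_inv_cancel_right])
  have hfixT : ∀ x ∈ T, s * x = x * s := fun x hx => by
    have h := congrArg Subtype.val (hL.rigid T₀ D₁ σ hD₁le hD₁odd hsup hσ2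
      (fun y hy => hST s hsS _ hy) hσinv hσD ⟨x, hx.2⟩ hx)
    rw [hσ] at h
    exact mul_inv_eq_iff_eq_mul.1 h
  -- `s` is isolated in `L ⟨s⟩`
  set X := L ⊔ zpowers s with hX
  have hzp : zpowers s ≤ normalizer (L : Set G) := by rw [normalizer_eq_top]; exact le_top
  have hmemX : ∀ x ∈ X, x ∈ L ∨ x * s ∈ L := by
    intro x hx
    obtain ⟨l, hl, c, hc, rfl⟩ := (Coprime.mem_sup_iff hzp).1 hx
    obtain ⟨i, rfl⟩ := mem_zpowers_iff.1 hc
    obtain ⟨j, hj | hj⟩ : ∃ j, i = 2 * j ∨ i = 2 * j + 1 := ⟨i / 2, by omega⟩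
    · left
      rw [hj, zpow_mul, zpow_two, hs2, one_zpow, mul_one]
      exact hl
    · right
      rw [hj, zpow_add, zpow_mul, zpow_two, hs2, one_zpow, one_mul, zpow_one, mul_assoc, hs2, mul_one]
      exact hl
  set S₀ := (S : Subgroup G) ⊓ X with hS₀
  have hS₀mem : ∀ x ∈ S₀, x ∈ T ∨ x * s ∈ T := fun x hx =>
    (hmemX x hx.2).imp (fun h => ⟨hx.1, h⟩) fun h => ⟨mul_mem hx.1 hsS, h⟩
  have hS₀c : ∀ x ∈ S₀, s * x = x * s := fun x hx => by
    rcases hS₀mem x hx with h | h
    · exact hfixT x h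
    · have := hfixT _ h
      rw [← mul_assoc] at this
      exact mul_right_cancel this
  have hsX : s ∈ X := mem_sup_right (mem_zpowers s)
  obtain ⟨P, hSP⟩ := ((S.isPGroup'.to_le (inf_le_left : S₀ ≤ (S : Subgroup G))).comap_subtype
    (K := X)).exists_le_sylow
  have hTX : T ≤ S₀ := fun x hx => ⟨hTS hx, mem_sup_left hx.2⟩
  have hP : ∀ x : X, x ∈ P ↔ (x : G) ∈ S₀ := by
    obtain ⟨Q, hQ⟩ := (P.isPGroup'.map X.subtype).exists_le_sylow
    obtain rfl : S = Q := huniq S Q fun x hx =>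
      hQ ⟨⟨x, (hTX hx).2⟩, hSP (mem_subgroupOf.2 (hTX hx)), rfl⟩
    exact fun x => ⟨fun h => ⟨hQ ⟨x, h, rfl⟩, x.2⟩, fun h => hSP (mem_subgroupOf.2 h)⟩
  have hiso : Cfsg.IsIsolatedInvolution (⟨s, hsX⟩ : X) := by
    refine ⟨orderOf_eq_prime (Subtype.ext (by rw [pow_two]; exact hs2)) fun h => hs1 (congrArg Subtype.val h),
      fun g hcg => ?_⟩
    set z : X := ⟨s, hsX⟩ with hz
    set y := g * z * g⁻¹ with hy
    have hz2 : z * z = 1 := Subtype.ext hs2
    -- conjugate `y` into the Sylow subgroup inside the centraliser of `z`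
    have hPc : (P : Subgroup X) ≤ centralizer ({z} : Set X) := fun x hx =>
      mem_centralizer_singleton_iff.2 (Subtype.ext (hS₀c x ((hP x).1 hx)).symm)
    let Pc : Sylow 2 (centralizer ({z} : Set X)) := P.subtype hPc
    have hyc : y ∈ centralizer ({z} : Set X) := mem_centralizer_singleton_iff.2 hcg.eq.symm
    obtain ⟨P', hP'⟩ := (IsPGroup.of_card (p := 2) (n := 1) (G := zpowers (⟨y, hyc⟩ : centralizer ({z} : Set X))) (by
      rw [Nat.card_zpowers, ← Subgroup.orderOf_coe, pow_one]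
      show orderOf (g * z * g⁻¹) = 2
      exact orderOf_eq_prime (by rw [conj_pow, pow_two, hz2]; group) fun h => hs1
        (congrArg Subtype.val (conj_eq_one_iff.1 h)))).exists_le_sylow
    obtain ⟨c, hc⟩ := MulAction.exists_smul_eq (centralizer ({z} : Set X)) P' Pc
    set y₁ : X := (c : X) * y * (c : X)⁻¹ with hy₁
    have hy₁P : y₁ ∈ P := by
      have h1 : c * ⟨y, hyc⟩ * c⁻¹ ∈ (c • P' : Sylow 2 (centralizer ({z} : Set X))) := by
        rw [← MulAut.conj_apply, ← MulAut.smul_def]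
        exact smul_mem_pointwise_smul _ _ _ (hP' (mem_zpowers _))
      rw [hc] at h1
      exact h1
    suffices hyz : y₁ = z by
      have h1 : (c : X) * z = z * c := mem_centralizer_singleton_iff.1 c.2
      calc y = (c : X)⁻¹ * y₁ * c := by rw [hy₁]; group
        _ = (c : X)⁻¹ * (z * c) := by rw [hyz, mul_assoc]
        _ = z := by rw [← h1, inv_mul_cancel_left]
    set h := (c : X) * g with hh
    have hy₁h : y₁ = h * z * h⁻¹ := by rw [hy₁, hy, hh]; group
    -- the Sylow subgroup centralises `y₁`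
    have hy₁c : (P : Subgroup X) ≤ centralizer ({y₁} : Set X) := by
      intro x hx
      refine mem_centralizer_singleton_iff.2 (Subtype.ext ?_)
      show (x : G) * y₁ = y₁ * x
      set v := (y₁ : G) * s with hv
      have hy₁S := (hP y₁).1 hy₁P
      have hy₁L : (y₁ : G) ∉ L := fun hl => hsL (by
        have := (inferInstance : L.Normal).conj_mem _ hl (h : G)⁻¹
        rwa [hy₁h, show ((h : G))⁻¹ * ((h * z * h⁻¹ : X) : G) * ((h : G))⁻¹⁻¹ = s by
          push_cast; group; rfl] at this)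
      have hvT : v ∈ T := (hS₀mem _ hy₁S).resolve_left fun h' => hy₁L h'.2
      have hy₁2 : (y₁ : G) * y₁ = 1 := by
        have h0 : y₁ * y₁ = 1 := by rw [hy₁h]; calc
          h * z * h⁻¹ * (h * z * h⁻¹) = h * (z * z) * h⁻¹ := by group
          _ = 1 := by rw [hz2]; group
        exact congrArg Subtype.val h0
      have hvv : (⟨v, hvT.2⟩ : L) * ⟨v, hvT.2⟩ = 1 := Subtype.ext (by
        show (y₁ : G) * s * (y₁ * s) = 1
        rw [mul_assoc, ← mul_assoc s, hS₀c _ hy₁S, mul_assoc (y₁ : G) s, hs2, mul_one, hy₁2])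
      have hcen : ∀ u ∈ T, u * v = v * u := fun u hu =>
        congrArg Subtype.val (hL.central T₀ ⟨v, hvT.2⟩ hvT hvv ⟨u, hu.2⟩ hu)
      have hyv : (y₁ : G) = v * s := by rw [hv, mul_assoc, hs2, mul_one]
      have hx' := (hP x).1 hx
      have hxv : (x : G) * v = v * x := by
        rcases hS₀mem _ hx' with h' | h'
        · exact hcen _ h'
        · have h1 := hcen _ h'
          have h2 : s * v = v * s := by rw [hv, ← mul_assoc, hS₀c _ hy₁S]
          refine mul_right_cancel (b := s) ?_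
          calc (x : G) * v * s = (x : G) * (s * v) := by rw [h2, mul_assoc]
            _ = (x : G) * s * v := (mul_assoc _ _ _).symm
            _ = v * ((x : G) * s) := h1
            _ = v * x * s := (mul_assoc _ _ _).symm
      rw [hyv, ← mul_assoc, hxv, mul_assoc v, ← hS₀c _ hx', ← mul_assoc]
    have hPh : ((h • P : Sylow 2 X) : Subgroup X) ≤ centralizer ({y₁} : Set X) := by
      rw [Sylow.coe_subgroup_smul]
      rintro _ ⟨x, hx, rfl⟩
      refine mem_centralizer_singleton_iff.2 ?_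
      have h1 : x * z = z * x := mem_centralizer_singleton_iff.1 (hPc hx)
      show h * x * h⁻¹ * y₁ = y₁ * (h * x * h⁻¹)
      rw [hy₁h]
      calc h * x * h⁻¹ * (h * z * h⁻¹) = h * (x * z) * h⁻¹ := by group
        _ = h * (z * x) * h⁻¹ := by rw [h1]
        _ = h * z * h⁻¹ * (h * x * h⁻¹) := by group
    obtain ⟨d, hd⟩ := MulAction.exists_smul_eq (centralizer ({y₁} : Set X))
      ((h • P).subtype hPh) (P.subtype hy₁c)
    rw [Sylow.smul_subtype] at hd
    have hdP : (d : X) • h • P = P := Sylow.ext (by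
      have := congrArg (fun Q : Sylow 2 (centralizer ({y₁} : Set X)) =>
        (Q : Subgroup (centralizer ({y₁} : Set X))).map (centralizer ({y₁} : Set X)).subtype) hd
      simp [Sylow.coe_subtype, subgroupOf_map_subtype, inf_of_le_left hy₁c] at this
      exact P.3 ((d : X) • h • P).isPGroup' (this.ge.trans inf_le_left))
    set n := (d : X) * h with hn
    have hnP : n ∈ normalizer ((P : Subgroup X) : Set X) :=
      Sylow.smul_eq_iff_mem_normalizer.1 (by rw [hn, mul_smul, hdP])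
    have hny : y₁ = n * z * n⁻¹ := by
      have h1 : (d : X) * y₁ = y₁ * d := mem_centralizer_singleton_iff.1 d.2
      calc y₁ = (d : X) * y₁ * (d : X)⁻¹ := by rw [h1, mul_inv_cancel_right]
        _ = (d : X) * (h * z * h⁻¹) * (d : X)⁻¹ :=
          congrArg (fun w : X => (d : X) * w * (d : X)⁻¹) hy₁h
        _ = n * z * n⁻¹ := by rw [hn]; group
    rw [hny]
    refine mul_inv_eq_iff_eq_mul.2 ?_
    -- `n` centralises `z`
    have key : ∀ l : G, l ∈ L → (∀ x ∈ S₀, l * x * l⁻¹ ∈ S₀) → l * s = s * l := by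
      intro l hl hls
      have hlN : (⟨l, hl⟩ : L) ∈ N₀ := by
        refine Coprime.mem_normalizer_of_forall fun x hx => ?_
        have h1 : (x : G) ∈ S₀ := ⟨hTS hx, mem_sup_left hx.2⟩
        exact ⟨(hls _ h1).1, mul_mem (mul_mem hl x.2) (L.inv_mem hl)⟩
      rw [← hsup] at hlN
      obtain ⟨a, ha, e, he, hae⟩ := (Coprime.mem_sup_iff (hD₁le : D₁ ≤ N₀)).1 hlN
      have hle : (a : G) * e = l := congrArg Subtype.val hae
      rw [← hle, mul_assoc, hcomm e he, ← mul_assoc, ← hfixT (a : G) ha, mul_assoc]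
    have hnS : ∀ x ∈ S₀, (n : G) * x * (n : G)⁻¹ ∈ S₀ := fun x hx =>
      (hP _).1 ((mem_normalizer_iff.1 hnP ⟨x, hx.2⟩).1 ((hP _).2 hx))
    refine Subtype.ext ?_
    show (n : G) * s = s * n
    rcases hmemX _ n.2 with hl | hl
    · exact key _ hl hnS
    · have h1 := key _ hl fun x hx => by
        rw [show (n : G) * s * x * ((n : G) * s)⁻¹ = n * (s * x * s⁻¹) * (n : G)⁻¹ by group,
          hS₀c x hx, mul_inv_cancel_right]
        exact hnS x hx
      rw [← mul_assoc] at h1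
      exact mul_right_cancel h1
  -- Glauberman
  have hcore : Cfsg.pPrimeCore 2 X = ⊥ := by
    set O := (Cfsg.pPrimeCore 2 X).map X.subtype with hOdef
    have hLX : L ≤ X := le_sup_left
    have hOn : ∀ g ∈ X, ∀ x ∈ O, g * x * g⁻¹ ∈ O := fun g hg x hx => by
      obtain ⟨x', hx', rfl⟩ := hx
      exact ⟨_, (Cfsg.pPrimeCore_normal 2 X).conj_mem x' hx' ⟨g, hg⟩, rfl⟩
    haveI : (O.subgroupOf L).Normal := ⟨fun x hx g => hOn g (hLX g.2) x hx⟩
    have hOodd : Odd (Nat.card O) := by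
      rw [hOdef, Nat.card_congr ((Cfsg.pPrimeCore 2 X).equivMapOfInjective _ X.subtype_injective).toEquiv.symm]
      exact Nat.coprime_two_right.1 (Cores.coprime_card_pPrimeCore 2)
    have hOL : O ⊓ L = ⊥ := by
      rcases (inferInstance : (O.subgroupOf L).Normal).eq_bot_or_eq_top with h | h
      · rwa [subgroupOf_eq_bot, disjoint_iff] at h
      · exfalso
        rw [subgroupOf_eq_top] at h
        have h2 : 2 ∣ Nat.card T := by
          obtain ⟨k, hk⟩ := IsPGroup.iff_card.1 (S.isPGroup'.to_le hTS)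
          rcases Nat.eq_zero_or_pos k with rfl | hk0
          · exact absurd (Subgroup.card_eq_one.1 hk) hTbot
          · rw [hk]; exact dvd_pow_self 2 hk0.ne'
        exact Nat.not_even_iff_odd.2 hOodd
          (even_iff_two_dvd.2 (h2.trans (card_dvd_of_le (inf_le_right.trans h))))
    have hle : O ≤ centralizer (L : Set G) := by
      intro o ho l hl
      have hoX : o ∈ X := map_subtype_le _ ho
      have h1 : l * o * l⁻¹ * o⁻¹ ∈ O ⊓ L := by
        refine ⟨mul_mem (hOn l (hLX hl) o ho) (O.inv_mem ho), ?_⟩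
        rw [show l * o * l⁻¹ * o⁻¹ = l * (o * l⁻¹ * o⁻¹) by group]
        exact mul_mem hl ((inferInstance : L.Normal).conj_mem _ (inv_mem hl) o)
      rw [hOL, mem_bot, mul_inv_eq_one] at h1
      exact mul_inv_eq_iff_eq_mul.1 h1
    rw [hCL, le_bot_iff, hOdef, Subgroup.map_eq_bot_iff, ker_subtype, le_bot_iff] at hle
    exact hle
  have hz := ZStar.zStar ZStarPrimePower.uniqueInvolutionZStar_proved _ X ⟨s, hsX⟩ rfl hiso
  have hsC : s ∈ centralizer (L : Set G) := fun l hl => by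
    have h := hz ⟨l, mem_sup_left hl⟩
    rw [hcore, mem_bot] at h
    have h1 : s * l * s⁻¹ * l⁻¹ = 1 := congrArg Subtype.val h
    rw [mul_inv_eq_one] at h1
    exact (mul_inv_eq_iff_eq_mul.1 h1).symm
  rw [hCL, mem_bot] at hsC
  exact hs1 hsC

/-- The index is odd. -/
theorem odd_index (hC : MeetCyclic G) {L : Subgroup G} [L.Normal] [IsSimpleGroup L]
    (hLab : ¬ IsMulCommutative L) (hCL : centralizer (L : Set G) = ⊥) (hL : CoreRigid L) :
    Odd L.index := by
  haveI : Fact (Nat.Prime 2) := ⟨Nat.prime_two⟩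
  refine odd_index_of_unique hLab hCL hL fun S S' hle => unique_sylow hC ?_ inf_le_left hle
  intro hcyc
  have hTp : IsPGroup 2 ↥(((S : Subgroup G) ⊓ L).subgroupOf L) :=
    (S.isPGroup'.to_le inf_le_left).comap_subtype
  have hTrel : ¬ 2 ∣ (((S : Subgroup G) ⊓ L).subgroupOf L).index := by
    rw [inf_subgroupOf_right]
    exact fun h => S.not_dvd_index (h.trans (ClassIndex.relIndex_dvd_index_of_normal_right _ L))
  refine hL.noncyclic (hTp.toSylow hTrel) ?_
  haveI := hcyc
  exact isCyclic_of_injective (subgroupOfEquivOfLe (inf_le_right : (S : Subgroup G) ⊓ L ≤ L)).toMonoidHom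
    (MulEquiv.injective _)

end Cfsg.Agent.MeetReduce
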