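import Cfsg.Agent.Lib.Goldschmidt.Facts.UnitarySylow

/-!
# Involutory automorphisms of the Sylow 2-subgroup of `PSU₃(2ⁿ)` (owner: helper31)

* `shift_of_commute` : an involutory automorphism fixing the centre and commuting with an odd one that
  fixes the centre and has no fixed point modulo it is trivial modulo the centre
-/

set_option autoImplicit false
set_option linter.unusedSectionVars false

namespace Cfsg.Agent.MeetReduce

open Subgroup Cfsg.Agent.Unitary Cfsg.Agent.Goldschmidt.Facts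

variable {F : Type*} [Field F] [Fintype F] {q : ℕ} {hF : Fintype.card F = q ^ 2} {h2 : (2 : F) = 0}

theorem shift_of_commute {n : ℕ} (hn : 1 ≤ n) (hq : q = 2 ^ n) {σ δ : MulAut (sylThree hF h2)}
    (hσ : σ * σ = 1) (hδ : Odd (orderOf δ)) (hc : σ * δ = δ * σ)
    (hσz : ∀ z ∈ center (sylThree hF h2), σ z = z) (hδz : ∀ z ∈ center (sylThree hF h2), δ z = z)
    (hfpf : ∀ x, x⁻¹ * δ x ∈ center (sylThree hF h2) → x ∈ center (sylThree hF h2)) :
    ∀ x, x⁻¹ * σ x ∈ center (sylThree hF h2) := by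
  obtain ⟨l, hl, hδp⟩ := perm_of_fix_center hn hq hδz
  obtain ⟨m, hm, hσp⟩ := perm_of_fix_center hn hq hσz
  have hm0 : m ≠ 0 := fun h => by rw [h, zero_pow (Nat.succ_ne_zero q)] at hm; exact zero_ne_one hm
  have hl0 : l ≠ 0 := fun h => by rw [h, zero_pow (Nat.succ_ne_zero q)] at hl; exact zero_ne_one hl
  -- `δ` is not trivial on the first coordinate
  have hδne : perm δ ≠ 1 := fun h => by
    have hall : ∀ x : sylThree hF h2, coordA x = 0 := fun x =>
      (Unitary.mem_center_iff x).1 (hfpf x (inv_mul_mem_center ((perm_eq_one_iff δ).1 h x).symm))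
    have h1 := hall (liftA 1)
    rw [coordA_liftA] at h1
    exact one_ne_zero h1
  have hδ' : (∀ a, perm δ a = l * a) ∧ l ≠ 1 := by
    rcases hδp with h | h
    · exact ⟨h, fun hl1 => hδne (Equiv.ext fun a => by rw [h, hl1, one_mul]; rfl)⟩
    · exfalso
      have h2p : perm δ ^ 2 = 1 := by
        rw [pow_two]
        refine Equiv.ext fun a => ?_
        show perm δ (perm δ a) = a
        rw [h, h, mul_pow, pow_q_pow_q hF, ← mul_assoc, ← pow_succ', hl, one_mul]
      have hodd : Odd (orderOf (perm δ)) := hδ.of_dvd_nat (orderOf_map_dvd _ _)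
      rcases (Nat.dvd_prime Nat.prime_two).1 (orderOf_dvd_of_pow_eq_one h2p) with h1 | h1
      · exact hδne (orderOf_eq_one_iff.1 h1)
      · rw [h1] at hodd
        exact absurd hodd (by decide)
  rcases hσp with h | h
  · have hm1 : m = 1 := by
      refine eq_one_of_sq_eq_one h2 ?_
      have h1 : perm (σ * σ) (1 : F) = (1 : F) := by
        rw [hσ, map_one (perm (hF := hF) (h2 := h2)), Equiv.Perm.one_apply]
      rw [map_mul, Equiv.Perm.mul_apply, h, h, mul_one] at h1
      rw [pow_two, h1]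
    intro x
    refine inv_mul_mem_center ?_
    rw [← perm_apply, h, hm1, one_mul]
  · exfalso
    have h1 := congrArg (fun τ => perm τ (1 : F)) hc
    simp only [map_mul, Equiv.Perm.mul_apply, h, hδ'.1, one_pow, mul_one] at h1
    -- `m l^q = l m`
    have hlq : l ^ q = l := mul_left_cancel₀ hm0 (h1.trans (mul_comm l m))
    refine hδ'.2 (eq_one_of_sq_eq_one h2 ?_)
    rw [pow_two, ← hl, pow_succ, hlq]

/-- The same on an isomorphic group. -/
theorem shift_of_equiv {P : Type*} [Group P] (e : P ≃* sylThree hF h2) {n : ℕ} (hn : 1 ≤ n)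
    (hq : q = 2 ^ n) {σ δ : MulAut P} (hσ : σ * σ = 1) (hδ : Odd (orderOf δ)) (hc : σ * δ = δ * σ)
    (hσz : ∀ z ∈ center P, σ z = z) (hδz : ∀ z ∈ center P, δ z = z)
    (hfpf : ∀ x, x⁻¹ * δ x ∈ center P → x ∈ center P) :
    ∀ x, x⁻¹ * σ x ∈ center P := by
  intro x
  have hconj : ∀ (τ : MulAut P) (y : P), MulAut.congr e τ (e y) = e (τ y) := fun τ y => by
    show e (τ (e.symm (e y))) = _
    rw [e.symm_apply_apply]
  have hz : ∀ τ : MulAut P, (∀ z ∈ center P, τ z = z) →
      ∀ z ∈ center (sylThree hF h2), MulAut.congr e τ z = z := fun τ hτ z hzm => by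
    obtain ⟨y, rfl⟩ := e.surjective z
    rw [hconj, hτ y ((SylowFacts.mem_center_iff e y).1 hzm)]
  have h := shift_of_commute hn hq (σ := MulAut.congr e σ) (δ := MulAut.congr e δ)
    (by rw [← map_mul, hσ, map_one]) (by rwa [MulEquiv.orderOf_eq]) (by rw [← map_mul, ← map_mul, hc])
    (hz σ hσz) (hz δ hδz) (fun y hy => by
      obtain ⟨z, rfl⟩ := e.surjective y
      rw [hconj, ← map_inv, ← map_mul, SylowFacts.mem_center_iff e] at hy
      exact (SylowFacts.mem_center_iff e z).2 (hfpf z hy)) (e x)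
  rwa [hconj, ← map_inv, ← map_mul, SylowFacts.mem_center_iff e] at h

end Cfsg.Agent.MeetReduce
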