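import Cfsg.Agent.Lib.MeetReduce.Outer
import Cfsg.Agent.Lib.MeetReduce.UnitaryShift
import Cfsg.Agent.Lib.Goldschmidt.General.RankFacts
import Cfsg.Agent.Lib.Goldschmidt.ThreePrime.SzFacts
import Cfsg.Agent.Lib.GraphCIT.Members

/-!
# `CoreRigid` for the simple groups of the list (owner: helper31)

* `CoreRigid.of_elementary`, `CoreRigid.of_rankFacts` : general criteria
* `coreRigid_psl_even`, `coreRigid_sz`, `coreRigid_psu`, `coreRigid_psl_odd` : the families
-/

set_option autoImplicit false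
set_option linter.unusedSectionVars false
set_option linter.style.haveILetI false

namespace Cfsg.Agent.MeetReduce

open Subgroup
open Cfsg.Agent.Goldschmidt.General (centre RankFacts)

universe u

variable {L : Type u} [Group L] [Finite L]

theorem not_isCyclic_of_two {T : Subgroup L} {x y : L} (hx : x ∈ T) (hy : y ∈ T) (hxx : x * x = 1)
    (hyy : y * y = 1) (hx1 : x ≠ 1) (hy1 : y ≠ 1) (hxy : x ≠ y) : ¬ IsCyclic T := fun hcyc => by
  classical
  haveI := hcyc
  letI := Fintype.ofFinite T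
  have h1 := IsCyclic.card_pow_eq_one_le (α := T) (by norm_num : 0 < 2)
  have h2 : ({1, ⟨x, hx⟩, ⟨y, hy⟩} : Finset T) ⊆ Finset.univ.filter (fun a : T => a ^ 2 = 1) := by
    intro a ha
    simp only [Finset.mem_insert, Finset.mem_singleton] at ha
    refine Finset.mem_filter.2 ⟨Finset.mem_univ _, ?_⟩
    rw [pow_two]
    rcases ha with rfl | rfl | rfl
    · rw [mul_one]
    · exact Subtype.ext hxx
    · exact Subtype.ext hyy
  have h3 := Finset.card_le_card h2
  rw [Finset.card_insert_of_notMem (by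
      simp only [Finset.mem_insert, Finset.mem_singleton, not_or]
      exact ⟨fun e => hx1 (congrArg Subtype.val e).symm, fun e => hy1 (congrArg Subtype.val e).symm⟩),
    Finset.card_pair (fun e => hxy (congrArg Subtype.val e))] at h3
  have h4 : (Finset.univ.filter (fun a : T => a ^ 2 = 1)).card ≤ 2 := by convert h1 using 2
  omega

/-- Elementary Sylow 2-subgroups and one class of involutions. -/
theorem CoreRigid.of_elementary (hT : ∀ T : Sylow 2 L, ∀ x ∈ T, x * x = 1)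
    (hnc : ∀ T : Sylow 2 L, ¬ IsCyclic (T : Subgroup L))
    (hone : ∀ s t : L, orderOf s = 2 → orderOf t = 2 → IsConj s t) : CoreRigid L := by
  haveI : Fact (Nat.Prime 2) := ⟨Nat.prime_two⟩
  have hab : ∀ T : Sylow 2 L, ∀ x ∈ T, ∀ y ∈ T, x * y = y * x := fun T x hx y hy => by
    have hinv : ∀ a ∈ T, a⁻¹ = a := fun a ha => inv_eq_of_mul_eq_one_right (hT T a ha)
    rw [← hinv _ (mul_mem hx hy), mul_inv_rev, hinv x hx, hinv y hy]
  refine ⟨hnc, fun T z hz _ x hx => hab T x hx z hz, fun T x hx hx1 hxx y hy hy1 hyy => ?_,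
    fun T D σ _ _ _ _ _ hfix _ x hx => hfix x hx (hT T x hx)⟩
  haveI : IsMulCommutative (T : Subgroup L) := ⟨⟨fun a b => Subtype.ext (hab T a a.2 b b.2)⟩⟩
  obtain ⟨g, hg⟩ := isConj_iff.1 (hone x y (orderOf_eq_prime (by rw [pow_two, hxx]) hx1)
    (orderOf_eq_prime (by rw [pow_two, hyy]) hy1))
  obtain ⟨n, hn, he⟩ := Sylow.conj_eq_normalizer_conj_of_mem T x g⁻¹ hx (by rwa [inv_inv, hg])
  rw [inv_inv, hg] at he
  exact ⟨n⁻¹, inv_mem hn, by rw [inv_inv, he]⟩

/-- From `RankFacts`, when an involutory automorphism is trivial modulo the centre. -/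
theorem CoreRigid.of_rankFacts {q : ℕ} (h : RankFacts L q)
    (hshift : ∀ (T : Sylow 2 L) (D : Subgroup L) (σ : MulAut L),
      D ≤ normalizer ((T : Subgroup L) : Set L) → Odd (Nat.card D) →
      (T : Subgroup L) ⊔ D = normalizer ((T : Subgroup L) : Set L) → (∀ x, σ (σ x) = x) →
      (∀ x ∈ T, σ x ∈ T) → (∀ z ∈ centre (T : Subgroup L), σ z = z) → (∀ d ∈ D, σ d = d) →
      ∀ x ∈ T, x⁻¹ * σ x ∈ centre (T : Subgroup L)) : CoreRigid L := by
  obtain ⟨n, hn, hq⟩ := h.pow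
  refine ⟨fun T hcyc => ?_, fun T z hz hzz x hx => ?_, fun T x hx hx1 hxx y hy hy1 hyy => ?_,
    fun T D σ hD hodd hsup hσ2 hσT hfix hσD x hx => ?_⟩
  · have hc : q ≤ 2 := by
      rw [← h.card_centre T]
      classical
      haveI := hcyc
      letI := Fintype.ofFinite (T : Subgroup L)
      have h1 := IsCyclic.card_pow_eq_one_le (α := (T : Subgroup L)) (by norm_num : 0 < 2)
      refine le_trans ?_ h1
      rw [← Fintype.card_subtype, ← Nat.card_eq_fintype_card]
      refine Nat.card_le_card_of_injective (fun c : centre (T : Subgroup L) =>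
        (⟨⟨c, c.2.1⟩, ?_⟩ : {a : (T : Subgroup L) // a ^ 2 = 1})) fun a b e => ?_
      · rw [pow_two]
        exact Subtype.ext ((h.omega T c c.2.1).2 c.2)
      · exact Subtype.ext (congrArg (fun z : {a : (T : Subgroup L) // a ^ 2 = 1} => (z.1 : L)) e)
    have h4 : 2 ^ 2 ≤ q := hq ▸ Nat.pow_le_pow_right (by norm_num) hn
    omega
  · exact (mem_centralizer_iff.1 (mem_inf.1 ((h.omega T z hz).1 hzz)).2) x hx
  · obtain ⟨k, hk, htor, -⟩ := h.torus T
    obtain ⟨i, hi⟩ := htor.trans x ((h.omega T x hx).1 hxx) y ((h.omega T y hy).1 hyy) hx1 hy1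
    exact ⟨k ^ i, pow_mem hk i, hi⟩
  · have hz : ∀ z ∈ centre (T : Subgroup L), σ z = z := fun z hz =>
      hfix z hz.1 ((h.omega T z hz.1).2 hz)
    obtain ⟨s, hs, rfl⟩ := h.autInner T σ hz (hshift T D σ hD hodd hsup hσ2 hσT hz hσD)
    have hc : s * s ∈ Subgroup.center L := mem_center_iff.2 fun g => by
      have h1 := hσ2 g
      simp only [MulAut.conj_apply] at h1
      calc g * (s * s) = s * (s * g * s⁻¹) * s⁻¹ * (s * s) := by rw [h1]
        _ = s * s * g := by group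
    rw [h.center, mem_bot] at hc
    have hsc := (mem_centralizer_iff.1 (mem_inf.1 ((h.omega T s hs).1 hc)).2) x hx
    rw [MulAut.conj_apply, ← hsc, mul_inv_cancel_right]

/-- `PSL₂(2ⁿ)`. -/
theorem coreRigid_psl_even {F : Type} [Field F] [Fintype F] {n : ℕ} [IsSimpleGroup L] (hn : 2 ≤ n)
    (hF : Fintype.card F = 2 ^ n) (e : L ≃* Matrix.ProjectiveSpecialLinearGroup (Fin 2) F) :
    CoreRigid L := by
  haveI : Fact (Nat.Prime 2) := ⟨Nat.prime_two⟩
  obtain ⟨e'⟩ := Goldschmidt.General.Rank.pgl_equiv_psl (n := n) (by omega) hF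
  have h := Goldschmidt.General.Rank.rankFacts_of_equiv (Goldschmidt.General.Rank.model_pgl hn hF) (e.trans e')
  refine CoreRigid.of_rankFacts h fun T _ σ _ _ _ _ hσT hz _ x hx => ?_
  have hcard : Nat.card (T : Subgroup L) = 2 ^ n := by
    rw [T.card_eq_multiplicity, Nat.card_congr e.toEquiv]
    show 2 ^ (Nat.card (PSL2.PSL2 F)).factorization 2 = _
    rw [GraphCIT.card_pslEven (by omega) hF, Nat.factorization_mul (by positivity) (by
        have : 2 ^ 1 ≤ 2 ^ (2 * n) := Nat.pow_le_pow_right (by norm_num) (by omega)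
        omega), Finsupp.add_apply, Nat.Prime.factorization_pow Nat.prime_two, Finsupp.single_eq_same,
      Nat.factorization_eq_zero_of_not_dvd (GraphCIT.not_two_dvd_two_pow_sub_one (by omega)), add_zero]
  have heq : centre (T : Subgroup L) = (T : Subgroup L) :=
    Subgroup.eq_of_le_of_card_ge inf_le_left (by rw [hcard, h.card_centre T])
  rw [heq]
  exact mul_mem (inv_mem hx) (hσT x hx)

/-- The Suzuki groups. -/
theorem coreRigid_sz [IsSimpleGroup L] (h : Cfsg.Lie.IsoSuzuki L) : CoreRigid L := by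
  haveI : Fact (Nat.Prime 2) := ⟨Nat.prime_two⟩
  obtain ⟨q, hq⟩ := Goldschmidt.General.rankTarget L inferInstance (Or.inr (Or.inl h))
  obtain ⟨q', hq'⟩ := Goldschmidt.ThreePrime.szFacts h
  refine CoreRigid.of_rankFacts hq fun T _ σ _ _ _ hσ2 _ hz _ x hx => ?_
  obtain ⟨s, rfl⟩ := hq'.inner σ ⟨1, by rw [pow_one, pow_two]; exact MulEquiv.ext hσ2⟩
  obtain ⟨n, hn, hqn⟩ := hq.pow
  haveI : Nontrivial (centre (T : Subgroup L)) := Finite.one_lt_card_iff_nontrivial.1 (by
    rw [hq.card_centre T, hqn]; exact Nat.one_lt_two_pow (by omega))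
  obtain ⟨⟨z, hzc⟩, hne⟩ := exists_ne (1 : centre (T : Subgroup L))
  have hz1 : z ≠ 1 := fun e => hne (Subtype.ext e)
  obtain ⟨Q, hQ⟩ := hq'.cent z (orderOf_eq_prime (by rw [pow_two, (hq.omega T z hzc.1).2 hzc]) hz1)
  have hTQ : (T : Subgroup L) ≤ (Q : Subgroup L) := hQ ▸ fun y hy =>
    mem_centralizer_singleton_iff.2 ((mem_centralizer_iff.1 hzc.2) y hy)
  have hsQ : s ∈ (Q : Subgroup L) := by
    rw [← hQ]
    refine mem_centralizer_singleton_iff.2 ?_
    have h1 := hz z hzc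
    rw [MulAut.conj_apply] at h1
    exact mul_inv_eq_iff_eq_mul.1 h1
  rw [T.is_maximal' Q.isPGroup' hTQ] at hsQ
  have := hq.comm T x⁻¹ (inv_mem hx) s hsQ
  rwa [commutatorElement_def, inv_inv, mul_assoc, mul_assoc, ← mul_assoc s] at this

/-- The unitary groups. -/
theorem coreRigid_psu {F : Type} [Field F] [Fintype F] {n : ℕ} [IsSimpleGroup L] (hn : 2 ≤ n)
    (hF : Fintype.card F = (2 ^ n) ^ 2) (e : L ≃* Cfsg.PSU 3 F (2 ^ n)) : CoreRigid L := by
  haveI : Fact (Nat.Prime 2) := ⟨Nat.prime_two⟩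
  obtain ⟨hm, hcent⟩ := Goldschmidt.General.Rank.model_psu hn hF
  have h := Goldschmidt.General.Rank.rankFacts_of_equiv hm e
  have h2 : (2 : F) = 0 := by
    have h0 : ((2 : ℕ) : F) ^ (n * 2) = 0 := by
      rw [← Nat.cast_pow, pow_mul, ← hF]; exact FiniteField.cast_card_eq_zero F
    exact_mod_cast eq_zero_of_pow_eq_zero h0
  refine CoreRigid.of_rankFacts h fun T D σ hD hodd hsup hσ2 hσT hz hσD x hx => ?_
  -- an element of `D` without fixed points modulo the centre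
  obtain ⟨P, hP⟩ : ∃ P : Sylow 2 (Cfsg.PSU 3 F (2 ^ n)), (P : Subgroup _) = (T : Subgroup L).map e.toMonoidHom :=
    ⟨T.mapSurjective (f := e.toMonoidHom) e.surjective, rfl⟩
  have hc' := (hcent P).map e.symm
  rw [hP, Subgroup.map_map] at hc'
  have hid : (T : Subgroup L).map (e.symm.toMonoidHom.comp e.toMonoidHom) = (T : Subgroup L) := by
    convert (T : Subgroup L).map_id
    ext y
    simp
  rw [hid] at hc'
  obtain ⟨z, hzN, -, -, hzc, hzf⟩ := hc'
  rw [← hsup] at hzN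
  obtain ⟨a, ha, d, hd, rfl⟩ := (Coprime.mem_sup_iff hD).1 hzN
  set C := centre (T : Subgroup L) with hC
  have hCcomm : ∀ c ∈ C, ∀ y ∈ T, y * c = c * y := fun c hc y hy => mem_centralizer_iff.1 hc.2 y hy
  have hdc : ∀ c ∈ C, d * c * d⁻¹ = c := fun c hc => by
    have h1 : a * d * c * (a * d)⁻¹ = c := by rw [hzc c hc, mul_inv_cancel_right]
    calc d * c * d⁻¹ = a⁻¹ * (a * d * c * (a * d)⁻¹) * a := by group
      _ = a⁻¹ * (c * a) := by rw [h1, mul_assoc]
      _ = c := by rw [← hCcomm c hc a ha, inv_mul_cancel_left]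
  have hdf : ∀ y ∈ T, y⁻¹ * (d * y * d⁻¹) ∈ C → y ∈ C := fun y hy hm => by
    refine hzf y hy ?_
    have hdy : d * y * d⁻¹ ∈ T := (mem_normalizer_iff.1 (hD hd) y).1 hy
    have h1 := h.comm T a ha _ hdy
    rw [commutatorElement_def] at h1
    have h2 : y⁻¹ * (a * d * y * (a * d)⁻¹) = y⁻¹ * ((a * (d * y * d⁻¹) * a⁻¹ * (d * y * d⁻¹)⁻¹) * y) *
        (y⁻¹ * (d * y * d⁻¹)) := by group
    rw [h2, ← hCcomm _ h1 y hy, inv_mul_cancel_left]
    exact mul_mem h1 hm
  -- the automorphisms of `T`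
  let τ : MulAut (T : Subgroup L) :=
    { toFun := fun y => ⟨σ y, hσT y y.2⟩
      invFun := fun y => ⟨σ y, hσT y y.2⟩
      left_inv := fun y => Subtype.ext (hσ2 y)
      right_inv := fun y => Subtype.ext (hσ2 y)
      map_mul' := fun y y' => Subtype.ext (map_mul σ (y : L) (y' : L)) }
  let δ : MulAut (T : Subgroup L) := (T : Subgroup L).normalizerMonoidHom ⟨d, hD hd⟩
  have hδ : ∀ y : (T : Subgroup L), ((δ y : (T : Subgroup L)) : L) = d * y * d⁻¹ := fun y => rfl
  have hcen : ∀ y : (T : Subgroup L), y ∈ Subgroup.center (T : Subgroup L) ↔ (y : L) ∈ C := fun y =>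
    ⟨fun hy => ⟨y.2, mem_centralizer_iff.2 fun g hg => congrArg Subtype.val (mem_center_iff.1 hy ⟨g, hg⟩)⟩,
      fun hy => mem_center_iff.2 fun g => Subtype.ext (hCcomm _ hy g g.2)⟩
  obtain ⟨ι⟩ := Unitary.exists_equiv (by omega : 1 ≤ n) rfl hF h2 P
  have eT : (T : Subgroup L) ≃* (P : Subgroup (Cfsg.PSU 3 F (2 ^ n))) :=
    (e.subgroupMap (T : Subgroup L)).trans (MulEquiv.subgroupCongr hP.symm)
  have key := shift_of_equiv (eT.trans ι.symm) (by omega : 1 ≤ n) rfl (σ := τ) (δ := δ)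
    (MulEquiv.ext fun y => Subtype.ext (hσ2 y))
    ((hodd.of_dvd_nat (Subgroup.orderOf_dvd_natCard D hd)).of_dvd_nat
      ((orderOf_map_dvd _ _).trans (dvd_of_eq (Subgroup.orderOf_mk d (hD hd)))))
    (MulEquiv.ext fun y => Subtype.ext (by
      show σ (δ y : (T : Subgroup L)) = d * σ y * d⁻¹
      rw [hδ, map_mul, map_mul, map_inv, hσD d hd]))
    (fun y hy => Subtype.ext (hz y ((hcen y).1 hy)))
    (fun y hy => Subtype.ext ((hδ y).trans (hdc y ((hcen y).1 hy))))
    (fun y hy => (hcen y).2 (hdf y y.2 (by rw [← hδ]; exact (hcen _).1 hy)))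
  exact (hcen _).1 (key ⟨x, hx⟩)

/-- The Sylow 2-subgroups of `PSL₂(q)`, `q ≡ 3, 5 (mod 8)`, have order four. -/
theorem sylow_card_psl_odd {F : Type} [Field F] [Fintype F] (hq : Fintype.card F % 8 = 3 ∨ Fintype.card F % 8 = 5)
    (e : L ≃* Matrix.ProjectiveSpecialLinearGroup (Fin 2) F) (T : Sylow 2 L) :
    Nat.card (T : Subgroup L) = 4 := by
  haveI : Fact (Nat.Prime 2) := ⟨Nat.prime_two⟩
  have hodd : Odd (Fintype.card F) := by
    rcases hq with h | h <;> exact Nat.odd_iff.2 (by omega)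
  obtain ⟨-, -, hcard⟩ := GraphCIT.pslOdd_facts hodd (by omega : 3 ≤ Fintype.card F)
  rw [T.card_eq_multiplicity, Nat.card_congr e.toEquiv]
  have hd : 2 ^ 2 ∣ Nat.card (PSL2.PSL2 F) ∧ ¬ 2 ^ 3 ∣ Nat.card (PSL2.PSL2 F) := by
    obtain ⟨k, hk⟩ : ∃ k, Fintype.card F = 8 * k + 3 ∨ Fintype.card F = 8 * k + 5 := ⟨Fintype.card F / 8, by omega⟩
    rcases hk with hk | hk
    · rw [hk, show 8 * k + 3 - 1 = 8 * k + 2 by omega] at hcard
      have : Nat.card (PSL2.PSL2 F) = 4 * ((8 * k + 3) * ((2 * k + 1) * (4 * k + 1))) := by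
        nlinarith
      rw [this]
      refine ⟨dvd_mul_right _ _, fun h => ?_⟩
      have h' := Nat.dvd_of_mul_dvd_mul_left (by norm_num : 0 < 4) (show 4 * 2 ∣ 4 * _ from h)
      have : Odd ((8 * k + 3) * ((2 * k + 1) * (4 * k + 1))) :=
        Odd.mul ⟨4 * k + 1, by ring⟩ (Odd.mul ⟨k, rfl⟩ ⟨2 * k, by ring⟩)
      exact Nat.not_even_iff_odd.2 this (even_iff_two_dvd.2 h')
    · rw [hk, show 8 * k + 5 - 1 = 8 * k + 4 by omega] at hcard
      have : Nat.card (PSL2.PSL2 F) = 4 * ((8 * k + 5) * ((4 * k + 3) * (2 * k + 1))) := by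
        nlinarith
      rw [this]
      refine ⟨dvd_mul_right _ _, fun h => ?_⟩
      have h' := Nat.dvd_of_mul_dvd_mul_left (by norm_num : 0 < 4) (show 4 * 2 ∣ 4 * _ from h)
      have : Odd ((8 * k + 5) * ((4 * k + 3) * (2 * k + 1))) :=
        Odd.mul ⟨4 * k + 2, by ring⟩ (Odd.mul ⟨2 * k + 1, by ring⟩ ⟨k, rfl⟩)
      exact Nat.not_even_iff_odd.2 this (even_iff_two_dvd.2 h')
  have hne : Nat.card (PSL2.PSL2 F) ≠ 0 := Nat.card_pos.ne'
  have h1 := (Nat.prime_two.pow_dvd_iff_le_factorization hne).1 hd.1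
  have h2 : ¬ 3 ≤ (Nat.card (PSL2.PSL2 F)).factorization 2 := fun h =>
    hd.2 ((Nat.prime_two.pow_dvd_iff_le_factorization hne).2 h)
  show 2 ^ (Nat.card (PSL2.PSL2 F)).factorization 2 = 4
  rw [show (Nat.card (PSL2.PSL2 F)).factorization 2 = 2 by omega]
  norm_num

/-- `PSL₂(q)`, `q ≡ 3, 5 (mod 8)`. -/
theorem coreRigid_psl_odd {F : Type} [Field F] [Fintype F] [IsSimpleGroup L]
    (hnab : ¬ IsMulCommutative L) (hq : Fintype.card F % 8 = 3 ∨ Fintype.card F % 8 = 5)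
    (h5 : 5 ≤ Fintype.card F) (e : L ≃* Matrix.ProjectiveSpecialLinearGroup (Fin 2) F) : CoreRigid L := by
  haveI : Fact (Nat.Prime 2) := ⟨Nat.prime_two⟩
  have hodd : Odd (Fintype.card F) := by
    rcases hq with h | h <;> exact Nat.odd_iff.2 (by omega)
  obtain ⟨hone, -, -⟩ := GraphCIT.pslOdd_facts hodd (by omega : 3 ≤ Fintype.card F)
  have hone' := hone.map e.symm
  have hnc : ∀ T : Sylow 2 L, ¬ IsCyclic (T : Subgroup L) := not_isCyclic_sylow fun hs =>
    hnab ⟨⟨IsSimpleGroup.comm_iff_isSolvable.2 hs⟩⟩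
  refine CoreRigid.of_elementary (fun T x hx => ?_) hnc hone'.2
  have h4 : Nat.card (T : Subgroup L) = 4 := sylow_card_psl_odd hq e T
  have hdvd := orderOf_dvd_natCard (⟨x, hx⟩ : (T : Subgroup L))
  rw [h4] at hdvd
  by_contra hne
  have ho : orderOf (⟨x, hx⟩ : (T : Subgroup L)) = 4 := by
    have hle := Nat.le_of_dvd (by norm_num) hdvd
    have h2' : ¬ orderOf (⟨x, hx⟩ : (T : Subgroup L)) ∣ 2 := fun h => hne (by
      have := orderOf_dvd_iff_pow_eq_one.1 h
      rw [pow_two] at this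
      exact congrArg Subtype.val this)
    interval_cases orderOf (⟨x, hx⟩ : (T : Subgroup L)) <;> simp_all
  exact hnc T (isCyclic_of_orderOf_eq_card _ (ho.trans h4.symm))

end Cfsg.Agent.MeetReduce
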